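import Mathlib

/-!
# A linear form with indeterminate coefficients, over the function field of its coefficients
-/

set_option autoImplicit false

universe u

open scoped TensorProduct
open MvPolynomial

noncomputable section

namespace Groth.Agent.GenCut

variable (k : Type u) [Field k] (ι : Type)

/-- The field of the coefficients. -/
abbrev GK : Type u := FractionRing (MvPolynomial ι k)

variable {A R : Type u} [CommRing A] [CommRing R] [Algebra k A] [Algebra k R] [Algebra (GK k ι) R] [Algebra A R]
  [IsScalarTower k A R] [IsScalarTower k (GK k ι) R] [Algebra.IsPushout k (GK k ι) A R]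

/-- The indeterminate coefficients in `R`. -/
def tv (R : Type u) [CommRing R] [Algebra (GK k ι) R] (l : ι) : R :=
  algebraMap (GK k ι) R (algebraMap (MvPolynomial ι k) (GK k ι) (X l))

/-- Evaluation of polynomials. -/
def ev : MvPolynomial ι A →+* R := eval₂Hom (algebraMap A R) (tv k ι R)

theorem ev_map (c : MvPolynomial ι k) :
    ev k ι (R := R) (MvPolynomial.map (algebraMap k A) c) =
      algebraMap (GK k ι) R (algebraMap (MvPolynomial ι k) (GK k ι) c) := by
  have h : (ev k ι (A := A) (R := R)).comp (MvPolynomial.map (algebraMap k A)) =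
      (algebraMap (GK k ι) R).comp (algebraMap (MvPolynomial ι k) (GK k ι)) :=
    MvPolynomial.ringHom_ext (fun a => by
      simp only [RingHom.comp_apply, map_C, ev, eval₂Hom_C]
      rw [← IsScalarTower.algebraMap_apply, IsScalarTower.algebraMap_apply k (GK k ι) R,
        IsScalarTower.algebraMap_apply k (MvPolynomial ι k) (GK k ι)]
      rfl) fun l => by simp [ev, tv]
  exact RingHom.congr_fun h c

theorem isUnit_ev_map {c : MvPolynomial ι k} (hc : c ≠ 0) :
    IsUnit (ev k ι (R := R) (MvPolynomial.map (algebraMap k A) c)) := by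
  rw [ev_map]
  refine IsUnit.map _ (Ne.isUnit ?_)
  exact fun h => hc (IsFractionRing.injective (MvPolynomial ι k) (GK k ι) (h.trans (map_zero _).symm))

theorem ev_injective : Function.Injective (ev k ι (A := A) (R := R)) := by
  haveI : Algebra.IsPushout k A (GK k ι) R := Algebra.IsPushout.symm inferInstance
  let e := Algebra.IsPushout.equiv k A (GK k ι) R
  let j : A ⊗[k] MvPolynomial ι k →ₐ[A] A ⊗[k] GK k ι :=
    Algebra.TensorProduct.map (AlgHom.id A A) (IsScalarTower.toAlgHom k (MvPolynomial ι k) (GK k ι))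
  have hj : Function.Injective j :=
    Module.Flat.lTensor_preserves_injective_linearMap
      (IsScalarTower.toAlgHom k (MvPolynomial ι k) (GK k ι)).toLinearMap
      (IsFractionRing.injective (MvPolynomial ι k) (GK k ι))
  let g : MvPolynomial ι A →ₐ[A] R :=
    e.toAlgHom.comp (j.comp (MvPolynomial.algebraTensorAlgEquiv k A).symm.toAlgHom)
  have hg : (g : MvPolynomial ι A →+* R) = ev k ι := by
    refine MvPolynomial.ringHom_ext (fun a => ?_) fun l => ?_
    · simp only [RingHom.coe_coe, ev, eval₂Hom_C]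
      exact g.commutes a
    · simp only [RingHom.coe_coe, ev, eval₂Hom_X']
      simp [g, j, e, tv, Algebra.IsPushout.equiv_tmul]
  rw [← hg]
  exact e.injective.comp (hj.comp (MvPolynomial.algebraTensorAlgEquiv k A).symm.injective)

theorem exists_eq (x : R) : ∃ (p : MvPolynomial ι A) (c : MvPolynomial ι k), c ≠ 0 ∧
    x * ev k ι (MvPolynomial.map (algebraMap k A) c) = ev k ι p := by
  haveI : Algebra.IsPushout k A (GK k ι) R := Algebra.IsPushout.symm inferInstance
  obtain ⟨y, rfl⟩ := (Algebra.IsPushout.equiv k A (GK k ι) R).surjective x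
  induction y using TensorProduct.induction_on with
  | zero => exact ⟨0, 1, one_ne_zero, by simp⟩
  | tmul a w =>
    obtain ⟨⟨p, c⟩, hpc⟩ := IsLocalization.surj (nonZeroDivisors (MvPolynomial ι k)) w
    refine ⟨C a * MvPolynomial.map (algebraMap k A) p, c.1, nonZeroDivisors.ne_zero c.2, ?_⟩
    rw [Algebra.IsPushout.equiv_tmul, map_mul, ev_map, ev_map, show ev k ι (C a) = algebraMap A R a by simp [ev],
      mul_assoc, ← map_mul, hpc]
  | add u v hu hv =>
    obtain ⟨p, c, hc, h⟩ := hu
    obtain ⟨q, d, hd, h'⟩ := hv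
    refine ⟨p * MvPolynomial.map (algebraMap k A) d + q * MvPolynomial.map (algebraMap k A) c, c * d,
      mul_ne_zero hc hd, ?_⟩
    simp only [map_add, map_mul]
    linear_combination ev k ι (MvPolynomial.map (algebraMap k A) d) * h +
      ev k ι (MvPolynomial.map (algebraMap k A) c) * h'

variable [IsDomain A]

include k ι A in
/-- The base change to the field of coefficients is a domain. -/
theorem isDomain : IsDomain R := by
  haveI : Nontrivial R := (ev_injective k ι (A := A)).nontrivial
  haveI : NoZeroDivisors R := ⟨fun {x y} hxy => by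
    obtain ⟨p, c, hc, hp⟩ := exists_eq k ι (A := A) x
    obtain ⟨q, d, hd, hq⟩ := exists_eq k ι (A := A) y
    have h : p * q = 0 := ev_injective k ι (A := A) (R := R) (by
      rw [map_mul, map_zero, ← hp, ← hq, mul_mul_mul_comm, hxy, zero_mul])
    rcases mul_eq_zero.1 h with h | h
    · rw [h, map_zero] at hp
      exact Or.inl ((isUnit_ev_map k ι hc).mul_left_eq_zero.1 hp)
    · rw [h, map_zero] at hq
      exact Or.inr ((isUnit_ev_map k ι hd).mul_left_eq_zero.1 hq)⟩
  exact NoZeroDivisors.to_isDomain R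

include k ι in
theorem algebraMap_injective : Function.Injective (algebraMap A R) := fun a b h =>
  MvPolynomial.C_injective ι A (ev_injective k ι (R := R) (by simpa [ev] using h))

variable [Fintype ι]

/-- The linear form. -/
def form₀ (a : ι → A) : MvPolynomial ι A := ∑ l, C (a l) * X l

theorem ev_form₀ (a : ι → A) : ev k ι (R := R) (form₀ ι a) = ∑ l, algebraMap A R (a l) * tv k ι R l := by
  simp [form₀, ev]

/-- A linear form with a unit coefficient generates, over the field of coefficients, the unit ideal or a prime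
ideal meeting the scalars in zero. -/
theorem generic_form (a : ι → A) (j : ι) (hj : IsUnit (a j)) :
    ev k ι (R := R) (form₀ ι a) ≠ 0 ∧ (Ideal.span {ev k ι (R := R) (form₀ ι a)} = ⊤ ∨
      ((Ideal.span {ev k ι (R := R) (form₀ ι a)}).IsPrime ∧
        (Ideal.span {ev k ι (R := R) (form₀ ι a)}).comap (algebraMap A R) = ⊥)) := by
  classical
  obtain ⟨v, hv⟩ := hj.exists_left_inv
  set f := form₀ ι a with hf
  let ψ : MvPolynomial ι A →ₐ[A] MvPolynomial ι A := aeval fun l => if l = j then X j - C v * f else X l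
  have hψf : ψ f = 0 := by
    have hsum : ψ f = (∑ l, C (a l) * X l) - C (a j) * (C v * f) := by
      simp only [hf, form₀, map_sum, map_mul]
      rw [← Finset.add_sum_erase _ _ (Finset.mem_univ j), ← Finset.add_sum_erase _ _ (Finset.mem_univ j)]
      have h2 : ∑ x ∈ Finset.univ.erase j, ψ (C (a x)) * ψ (X x) = ∑ x ∈ Finset.univ.erase j, C (a x) * X x :=
        Finset.sum_congr rfl fun x hx => by simp [ψ, (Finset.mem_erase.1 hx).1]
      rw [h2]
      simp only [ψ, aeval_C, aeval_X, if_true]
      rw [hf, form₀, ← Finset.add_sum_erase _ _ (Finset.mem_univ j)]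
      simp only [MvPolynomial.algebraMap_eq]
      ring
    rw [hsum, ← mul_assoc, ← map_mul, mul_comm (a j) v, hv, map_one, one_mul]
    exact sub_self f
  have hmem : ∀ p, p - ψ p ∈ Ideal.span {f} := fun p => by
    induction p using MvPolynomial.induction_on with
    | C a => simp [ψ]
    | add p q hp hq => rw [map_add, add_sub_add_comm]; exact add_mem hp hq
    | mul_X p l hp =>
      rw [map_mul, show p * X l - ψ p * ψ (X l) = (p - ψ p) * X l + ψ p * (X l - ψ (X l)) by ring]
      refine add_mem (Ideal.mul_mem_right _ _ hp) (Ideal.mul_mem_left _ _ ?_)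
      by_cases hl : l = j
      · subst hl
        simpa [ψ] using Ideal.mul_mem_left _ (C v) (Ideal.mem_span_singleton_self f)
      · simp [ψ, hl]
  have hker : ∀ p, p ∈ Ideal.span {f} ↔ ψ p = 0 := fun p => by
    refine ⟨fun h => ?_, fun h => by simpa [h] using hmem p⟩
    obtain ⟨q, rfl⟩ := Ideal.mem_span_singleton'.1 h
    rw [map_mul, hψf, mul_zero]
  have hprime : ∀ p q, p * q ∈ Ideal.span {f} → p ∈ Ideal.span {f} ∨ q ∈ Ideal.span {f} := fun p q h => by
    rw [hker, map_mul, mul_eq_zero] at h
    rw [hker, hker]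
    exact h
  have hf0 : f ≠ 0 := fun h => hj.ne_zero (by
    have := congrArg (coeff (Finsupp.single j 1)) h
    simpa [hf, form₀, coeff_sum, coeff_C_mul, coeff_X', Finsupp.single_left_inj, Finset.sum_ite_eq'] using this)
  refine ⟨fun h => hf0 (ev_injective k ι (R := R) (h.trans (map_zero _).symm)), ?_⟩
  by_cases hc : ∃ c : MvPolynomial ι k, c ≠ 0 ∧ MvPolynomial.map (algebraMap k A) c ∈ Ideal.span {f}
  · obtain ⟨c, hc0, hcm⟩ := hc
    refine Or.inl (Ideal.eq_top_of_isUnit_mem _ ?_ (isUnit_ev_map k ι (A := A) hc0))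
    obtain ⟨q, hq⟩ := Ideal.mem_span_singleton'.1 hcm
    rw [← hq, map_mul]
    exact Ideal.mem_span_singleton'.2 ⟨_, rfl⟩
  push Not at hc
  have key : ∀ p : MvPolynomial ι A, ev k ι (R := R) p ∈ Ideal.span {ev k ι (R := R) f} → p ∈ Ideal.span {f} := by
    intro p hp
    obtain ⟨r, hr⟩ := Ideal.mem_span_singleton'.1 hp
    obtain ⟨q, c, hc0, hq⟩ := exists_eq k ι (A := A) r
    have h : p * MvPolynomial.map (algebraMap k A) c = q * f := ev_injective k ι (R := R) (by
      rw [map_mul, map_mul, ← hq, ← hr]; ring)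
    rcases hprime p _ (Ideal.mem_span_singleton'.2 ⟨q, h.symm⟩) with h | h
    · exact h
    · exact absurd h (hc c hc0)
  refine Or.inr ⟨⟨fun h => hc 1 one_ne_zero (key _ (h ▸ Submodule.mem_top)), fun {x y} hxy => ?_⟩,
    eq_bot_iff.2 fun z hz => ?_⟩
  · obtain ⟨p, c, hc0, hp⟩ := exists_eq k ι (A := A) x
    obtain ⟨q, d, hd0, hq⟩ := exists_eq k ι (A := A) y
    have h : ev k ι (R := R) (p * q) ∈ Ideal.span {ev k ι (R := R) f} := by
      rw [map_mul, ← hp, ← hq, mul_mul_mul_comm]
      exact Ideal.mul_mem_right _ _ hxy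
    rcases hprime p q (key _ h) with h | h
    · refine Or.inl ((Ideal.mul_unit_mem_iff_mem _ (isUnit_ev_map k ι (A := A) hc0)).1 ?_)
      rw [hp]
      obtain ⟨r, rfl⟩ := Ideal.mem_span_singleton'.1 h
      exact Ideal.mem_span_singleton'.2 ⟨_, (map_mul _ _ _).symm⟩
    · refine Or.inr ((Ideal.mul_unit_mem_iff_mem _ (isUnit_ev_map k ι (A := A) hd0)).1 ?_)
      rw [hq]
      obtain ⟨r, rfl⟩ := Ideal.mem_span_singleton'.1 h
      exact Ideal.mem_span_singleton'.2 ⟨_, (map_mul _ _ _).symm⟩
  · have h1 : ev k ι (R := R) (C z) ∈ Ideal.span {ev k ι (R := R) f} := by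
      rw [show ev k ι (R := R) (C z) = algebraMap A R z by simp [ev]]; exact hz
    have h2 := (hker _).1 (key _ h1)
    simp [ψ] at h2
    exact h2

end Groth.Agent.GenCut

end
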