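import Groth.Agent.NakaiLib.HodgeProper
import Groth.Agent.SuppLib.Basic
import Groth.Agent.S7673
import Groth.Agent.S4642

/-!
# Pairings under extension of the base field and along closed immersions
-/

set_option autoImplicit false
set_option backward.isDefEq.respectTransparency false
set_option backward.isDefEq.respectTransparency.types false
set_option linter.style.haveILetI false

universe u

open CategoryTheory CategoryTheory.Limits AlgebraicGeometry TopologicalSpace Opposite
open Groth.Agent.PullbackMod Groth.Agent.DCohLib Groth.Agent.AmpleLib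
open Groth.Agent.IntLib (PicRing pairing compMod)

noncomputable section

namespace Groth.Agent.GenCut

variable (k : Type u) [Field k] {X : Scheme.{u}} [X.Over (Spec (CommRingCat.of k))]
  [IsProper (X ↘ Spec (CommRingCat.of k))] (K : Type u) [Field K] [Algebra k K]

instance overBc : (Curv2.bc k X K).Over (Spec (CommRingCat.of K)) := ⟨Curv2.bcSnd k X K⟩

instance isProper_bc : IsProper (Curv2.bc k X K ↘ Spec (CommRingCat.of K)) :=
  MorphismProperty.pullback_snd (P := @IsProper) _ _ inferInstance

/-- Pairings do not change under extension of the base field. -/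
theorem pairing_bc {F : X.Modules} (hF : Coh.IsCoh F) (z : PicRing X) :
    pairing K ((Scheme.Modules.pullback (Curv2.bcFst k X K)).obj F) (Nakai.pullRing (Curv2.bcFst k X K) z) =
      pairing k F z := by
  haveI := EulerIneqLib.isNoetherian_proper (X := X) k
  induction z using MonoidAlgebra.induction_on with
  | of g =>
    obtain ⟨c, G, hG, rfl⟩ := g
    have e : Nakai.pullRing (Curv2.bcFst k X K) (MonoidAlgebra.of ℤ (IntLib.Inv X) (IntLib.inv' hG)) =
        MonoidAlgebra.of ℤ (IntLib.Inv _) (IntLib.inv' (AmpleLib.isInvertible_pullback (Curv2.bcFst k X K) hG)) := by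
      refine (MonoidAlgebra.lift_of _ _).trans ?_
      exact congrArg (MonoidAlgebra.of ℤ (IntLib.Inv _)) (Subtype.ext (IntLib.pullCls_mk _ G))
    show pairing K _ (Nakai.pullRing _ (MonoidAlgebra.of ℤ (IntLib.Inv X) (IntLib.inv' hG))) = pairing k F (MonoidAlgebra.of ℤ (IntLib.Inv X) (IntLib.inv' hG))
    rw [e, IntLib.pairing_of, IntLib.pairing_of]
    show IntLib.chiC K (IntLib.mk ((Scheme.Modules.pullback (Curv2.bcFst k X K)).obj F) *
        IntLib.mk ((Scheme.Modules.pullback (Curv2.bcFst k X K)).obj G)) = IntLib.chiC k (IntLib.mk F * IntLib.mk G)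
    rw [← IntLib.mk_tensor, ← IntLib.mk_tensor, IntLib.chiC_mk, IntLib.chiC_mk]
    exact (CurveLib.euler_iso (K := K) (pullTensor _ F G).symm).trans
      (Groth.Agent.S7673.result k X K _ (CurveLib.isCoh_tmod hF (CurveLib.isCoh_of_isInvertible hG)))
  | add a b ha hb => rw [map_add, map_add, map_add, ha, hb]
  | smul n a ha => rw [map_zsmul, map_zsmul, map_zsmul, ha]

theorem pairing_bc_unit (z : PicRing X) :
    pairing K (Coh.structureModule (Curv2.bc k X K)) (Nakai.pullRing (Curv2.bcFst k X K) z) =
      pairing k (Coh.structureModule X) z := by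
  rw [← pairing_bc k K (DevLib.isCoh_structureModule X) z]
  exact IntLib.pairing_iso K (pullO _).symm _

omit [IsProper (X ↘ Spec (CommRingCat.of k))] in
theorem dim_bc [LocallyOfFiniteType (X ↘ Spec (CommRingCat.of k))] :
    topologicalKrullDim (Curv2.bc k X K) = topologicalKrullDim X :=
  Groth.Agent.S4642.result (K := K) (X ↘ Spec (CommRingCat.of k))

/-- The inverse image of the closure of a point keeps its dimension. -/
theorem dim_preimage_closure (ξ : X) :
    topologicalKrullDim ((Curv2.bcFst k X K) ⁻¹' closure ({ξ} : Set X)) = topologicalKrullDim (closure ({ξ} : Set X)) := by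
  let J := Scheme.IdealSheafData.vanishingIdeal (⟨closure {ξ}, isClosed_closure⟩ : Closeds X)
  have hr : Set.range J.subschemeι = closure {ξ} := by
    rw [Scheme.IdealSheafData.range_subschemeι, Scheme.IdealSheafData.coe_support_vanishingIdeal]; rfl
  let c := pullback.fst (Curv2.bcFst k X K) J.subschemeι
  haveI : IsClosedImmersion c := MorphismProperty.pullback_fst (P := @IsClosedImmersion) _ _ inferInstance
  have hrc : Set.range c = (Curv2.bcFst k X K) ⁻¹' closure ({ξ} : Set X) := by
    rw [← hr]
    exact Scheme.Pullback.range_fst _ _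
  haveI : LocallyOfFiniteType (J.subschemeι ≫ (X ↘ Spec (CommRingCat.of k))) := inferInstance
  rw [← hrc, ← c.isEmbedding.toHomeomorph.isHomeomorph.topologicalKrullDim_eq, ← hr,
    ← J.subschemeι.isEmbedding.toHomeomorph.isHomeomorph.topologicalKrullDim_eq,
    ← Groth.Agent.S4642.result (K := K) (J.subschemeι ≫ (X ↘ Spec (CommRingCat.of k)))]
  exact (Scheme.homeoOfIso (pullbackSymmetry _ _ ≪≫
    pullbackRightPullbackFstIso (X ↘ Spec (CommRingCat.of k)) (Spec.map (CommRingCat.ofHom (algebraMap k K)))
      J.subschemeι)).isHomeomorph.topologicalKrullDim_eq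

theorem support_push_eq {W X : Scheme.{u}} (i : W ⟶ X) [IsClosedImmersion i] (M : W.Modules) :
    CohB1.support ((Scheme.Modules.pushforward i).obj M) = i '' CohB1.support M := by
  ext y
  constructor
  · intro hy
    obtain ⟨x, rfl⟩ := IntLib.support_pushforward_subset i M hy
    exact ⟨x, fun h => hy (haveI := h; (bijective_pushStalk i M x).1.subsingleton), rfl⟩
  · rintro ⟨x, hx, rfl⟩ h
    exact hx (haveI := h; (bijective_pushStalk i M x).2.subsingleton)

/-- Pairings at a point of a closed subscheme. -/
theorem exists_transfer_point {W : Scheme.{u}} [W.Over (Spec (CommRingCat.of k))] [IsProper (W ↘ Spec (CommRingCat.of k))]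
    (i : W ⟶ X) [IsClosedImmersion i] (hi : i ≫ (X ↘ Spec (CommRingCat.of k)) = W ↘ Spec (CommRingCat.of k))
    {w : W} {d : ℕ} (hw : topologicalKrullDim (closure ({w} : Set W)) = (d : WithBot ℕ∞)) :
    ∃ a : ℕ, 0 < a ∧ ∀ z ∈ Nakai.Aug X ^ d,
      pairing k (compMod w) (Nakai.pullRing i z) = (a : ℤ) * pairing k (compMod (i w)) z := by
  haveI := EulerIneqLib.isNoetherian_proper (X := X) k
  haveI := EulerIneqLib.isNoetherian_proper (X := W) k
  have hQ := IntLib.isPiece_compMod w
  have him : i '' closure {w} = closure ({i w} : Set X) :=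
    (i.isClosedEmbedding.closure_image_eq _).symm.trans (by rw [Set.image_singleton])
  have hd : topologicalKrullDim (closure ({i w} : Set X)) = (d : WithBot ℕ∞) := by
    rw [← him, ← hw]
    exact (IsHomeomorph.topologicalKrullDim_eq _ (i.isEmbedding.homeomorphImage _).isHomeomorph).symm
  have hwmem : w ∈ CohB1.support (compMod w) :=
    haveI := hQ.simple
    haveI := IsSimpleModule.nontrivial (W.presheaf.stalk w) ((compMod w).presheaf.stalk w)
    not_subsingleton _
  have hs := support_push_eq i (compMod w)
  obtain ⟨a, ha, h⟩ := Nakai.exists_pairing_eq_mul k hd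
    (DevLib.isCoh_pushforward_closed i hQ.coh)
    (hs.le.trans (by
      rw [← him]; exact Set.image_mono fun y hy => specializes_iff_mem_closure.1 (hQ.supp y hy)))
    (hs.ge ⟨w, hwmem, rfl⟩)
  exact ⟨a, ha, fun z hz => (Nakai.pairing_push k i hi hQ.coh z).symm.trans (h z hz)⟩

/-- A point seen on a closed subscheme. -/
theorem dim_closure_of_immersion {W : Scheme.{u}} (i : W ⟶ X) [IsClosedImmersion i] (w : W) :
    topologicalKrullDim (closure ({w} : Set W)) = topologicalKrullDim (closure ({i w} : Set X)) := by
  rw [← Set.image_singleton, i.isClosedEmbedding.closure_image_eq]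
  exact IsHomeomorph.topologicalKrullDim_eq _ (i.isEmbedding.homeomorphImage _).isHomeomorph

end Groth.Agent.GenCut

end
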