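import Groth.Agent.NakaiLib.HodgeProper
import Groth.Agent.NakaiLib.NefBig
import Groth.Agent.BoundaryConn.Main
import Groth.Agent.NumBddLib.ZeroFam

/-!
# Irreducibility of a zero locus from irreducibility away from a small closed set
-/

set_option autoImplicit false
set_option backward.isDefEq.respectTransparency false
set_option backward.isDefEq.respectTransparency.types false
set_option linter.style.haveILetI false

universe u

open CategoryTheory CategoryTheory.Limits AlgebraicGeometry TopologicalSpace Opposite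
open Groth.Agent.PullbackMod Groth.Agent.DCohLib Groth.Agent.AmpleLib

noncomputable section

namespace Groth.Agent.GenCut

variable {Y : Scheme.{u}} {B : Y.Modules}

/-- The support of the cokernel of a section is its zero locus. -/
theorem mem_support_coker_iff (hB : PicF.IsInvertible B) (σ : Coh.structureModule Y ⟶ B) [Mono σ] (y : Y) :
    y ∈ CohB1.support (cokernel σ) ↔ y ∉ CohB1.genLocus B σ := by
  have hone : stalkLin σ y (ParaFLib.oneG y) = B.presheaf.germ ⊤ y trivial (sec σ) := stalkLin_germ σ (U := ⊤) y trivial _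
  refine ⟨fun h hm => DevLib.notMem_support_coker σ ?_ h, fun hy hss => hy ?_⟩
  · intro z
    obtain ⟨r, rfl⟩ := ((AmpleLib.mem_genLocus_iff hB).1 hm).2 z
    exact ⟨r • ParaFLib.oneG y, by rw [map_smul, hone]⟩
  · obtain ⟨e, he⟩ := ParaFLib.exists_stalk_gen hB y
    obtain ⟨z, hz⟩ := (DevLib.coker_exact σ y e).1 (hss.elim _ _)
    obtain ⟨r, rfl⟩ := (ParaFLib.bijective_oneG y).2 z
    obtain ⟨a, ha⟩ := he.2 (B.presheaf.germ ⊤ y trivial (sec σ))
    change a • e = _ at ha
    rw [AmpleLib.mem_genLocus_iff hB, ← ha, bijective_smul_iff he]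
    rw [map_smul, hone, ← ha, smul_smul] at hz
    exact isUnit_of_mul_isUnit_right ((he.1 (hz.trans (one_smul _ e).symm)) ▸ isUnit_one)

/-- The zero locus at a point: the dimension drops at most by one. -/
theorem exists_stalk_zero [IsLocallyNoetherian Y] (hB : PicF.IsInvertible B) (σ : Coh.structureModule Y ⟶ B) {x : Y}
    (hx : x ∉ CohB1.genLocus B σ) :
    ∃ a : Y.presheaf.stalk x, ringKrullDim (Y.presheaf.stalk x) ≤
        topologicalKrullDim (PrimeSpectrum (Y.presheaf.stalk x ⧸ Ideal.span {a})) + 1 ∧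
      ∃ φ : PrimeSpectrum (Y.presheaf.stalk x ⧸ Ideal.span {a}) → Y, Topology.IsInducing φ ∧
        ∀ p, φ p ⤳ x ∧ φ p ∉ CohB1.genLocus B σ := by
  obtain ⟨W, b, hxW, -, hb⟩ := ZeroFam.exists_affine_gen hB (Opens.mem_top x)
  obtain ⟨c, hc⟩ := (hb W.1 le_rfl).2 (resT (sec σ) W.1)
  simp only [ParaFLib.res_self] at hc
  let a := Y.presheaf.germ W.1 x hxW c
  have hbo := genLocus_inf_eq_basicOpen σ hb hc
  have ham : a ∈ IsLocalRing.maximalIdeal (Y.presheaf.stalk x) := by
    rw [IsLocalRing.mem_maximalIdeal, mem_nonunits_iff]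
    intro hu
    have h1 : x ∈ Y.basicOpen c := (Y.mem_basicOpen c x hxW).2 hu
    exact hx (hbo.ge h1).1
  refine ⟨a, ?_, fun p => W.2.fromSpecStalk hxW (p.comap (Ideal.Quotient.mk (Ideal.span {a}))), ?_, fun p => ⟨?_, ?_⟩⟩
  · rw [PrimeSpectrum.topologicalKrullDim_eq_ringKrullDim]
    have := ringKrullDim_le_ringKrullDim_quotient_add_encard ({a} : Set (Y.presheaf.stalk x))
      (Set.singleton_subset_iff.2 ((IsLocalRing.ringJacobson_eq_maximalIdeal _).ge ham))
    simpa using this
  · exact ((W.2.fromSpecStalk hxW).isEmbedding.isInducing).comp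
      (PrimeSpectrum.isClosedEmbedding_comap_of_surjective _ _ Ideal.Quotient.mk_surjective).isInducing
  · have h := (IsLocalRing.specializes_closedPoint (p.comap (Ideal.Quotient.mk (Ideal.span {a})))).map
      (W.2.fromSpecStalk hxW).continuous
    exact h.trans (specializes_of_eq (W.2.fromSpecStalk_closedPoint hxW))
  · intro hm
    let P : PrimeSpectrum Γ(Y, W.1) := (p.comap (Ideal.Quotient.mk (Ideal.span {a}))).comap
      (Y.presheaf.germ W.1 x hxW).hom
    have hP : W.2.fromSpec P ∈ W.1 := W.2.range_fromSpec.le ⟨P, rfl⟩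
    have e : W.2.fromSpecStalk hxW (p.comap (Ideal.Quotient.mk (Ideal.span {a}))) = W.2.fromSpec P := by
      rw [IsAffineOpen.fromSpecStalk, Scheme.Hom.comp_apply]
      rfl
    have h1 : W.2.fromSpec P ∈ Y.basicOpen c := hbo.le ⟨e ▸ hm, hP⟩
    have h2 : P ∈ W.2.fromSpec ⁻¹ᵁ Y.basicOpen c := h1
    rw [W.2.fromSpec_preimage_basicOpen] at h2
    refine h2 ?_
    show Ideal.Quotient.mk (Ideal.span {a}) a ∈ p.asIdeal
    rw [Ideal.Quotient.eq_zero_iff_mem.2 (Ideal.mem_span_singleton_self a)]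
    exact p.asIdeal.zero_mem

variable (K : Type u) [Field K] [Y.Over (Spec (CommRingCat.of K))] [IsProper (Y ↘ Spec (CommRingCat.of K))]
  [IsIntegral Y]

include K in
/-- If the zeros off a small set specialise from one zero, the zero locus is the closure of that zero. -/
theorem zeros_subset_closure {e : ℕ} (hY : topologicalKrullDim Y = ((e + 1 : ℕ) : WithBot ℕ∞)) (he : 2 ≤ e)
    (hB : PicF.IsInvertible B) (σ : Coh.structureModule Y ⟶ B) {Cs : Set Y}
    (hC : topologicalKrullDim Cs < ((2 : ℕ) : WithBot ℕ∞)) {g : Y}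
    (hspec : ∀ y, y ∉ CohB1.genLocus B σ → y ∉ Cs → g ⤳ y) :
    ∀ y, y ∉ CohB1.genLocus B σ → g ⤳ y ∧
      (e : WithBot ℕ∞) ≤ topologicalKrullDim (closure ({g} : Set Y)) := by
  haveI := EulerIneqLib.isNoetherian_proper (X := Y) K
  haveI : JacobsonSpace Y := LocallyOfFiniteType.jacobsonSpace (Y ↘ Spec (CommRingCat.of K))
  let Z : Set Y := (CohB1.genLocus B σ : Set Y)ᶜ
  have hZ : IsClosed Z := (CohB1.genLocus B σ).isOpen.isClosed_compl
  have hcl : ∀ x ∈ Z, IsClosed ({x} : Set Y) → g ⤳ x ∧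
      ∃ (T : Type u) (_ : TopologicalSpace T) (φ : T → Y), (e : WithBot ℕ∞) ≤ topologicalKrullDim T ∧
        Topology.IsInducing φ ∧ ∀ t, φ t ⤳ x ∧ φ t ∈ Z := by
    intro x hx hxc
    obtain ⟨a, hdim, φ, hφ, hφp⟩ := exists_stalk_zero hB σ hx
    rw [BoundaryConn.ringKrullDim_stalk_closed (Y ↘ Spec (CommRingCat.of K)) x hxc, hY] at hdim
    have hT : (e : WithBot ℕ∞) ≤ topologicalKrullDim (PrimeSpectrum (Y.presheaf.stalk x ⧸ Ideal.span {a})) := by
      push_cast at hdim
      generalize topologicalKrullDim (PrimeSpectrum (Y.presheaf.stalk x ⧸ Ideal.span {a})) = D at hdim ⊢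
      induction D with
      | bot => simp at hdim
      | coe D =>
        induction D with
        | top => exact le_top
        | coe D =>
          have h : (e + 1 : ℕ) ≤ D + 1 := by exact_mod_cast hdim
          exact_mod_cast (by omega : e ≤ D)
    refine ⟨?_, _, _, φ, hT, hφ, hφp⟩
    by_contra hgx
    have hsub : ∀ p, φ p ∈ Cs := fun p => by
      by_contra hp
      exact hgx ((hspec _ (hφp p).2 hp).trans (hφp p).1)
    have h2 : topologicalKrullDim (PrimeSpectrum (Y.presheaf.stalk x ⧸ Ideal.span {a})) ≤ topologicalKrullDim Cs :=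
      (hφ.codRestrict hsub).topologicalKrullDim_le
    have h3 : (e : WithBot ℕ∞) < ((2 : ℕ) : WithBot ℕ∞) := lt_of_le_of_lt (hT.trans h2) hC
    exact absurd (by exact_mod_cast h3 : e < 2) (not_lt.2 he)
  have hsub : Z ⊆ closure {g} := by
    rw [← hZ.closure_eq, ← JacobsonSpace.closure_inter_closedPoints_eq_closure hZ.isLocallyClosed]
    exact closure_minimal (fun x hx => specializes_iff_mem_closure.1 (hcl x hx.1 hx.2).1) isClosed_closure
  intro y hy
  refine ⟨specializes_iff_mem_closure.2 (hsub hy), ?_⟩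
  obtain ⟨x, hx, hxc⟩ := nonempty_inter_closedPoints (X := Y) (Z := Z) ⟨y, hy⟩ hZ.isLocallyClosed
  obtain ⟨-, T, _, φ, hT, hφ, hφp⟩ := hcl x hx hxc
  exact hT.trans (hφ.codRestrict fun t => hsub (hφp t).2).topologicalKrullDim_le

/-- A nonzero section of an invertible module on an integral scheme has a proper zero locus. -/
theorem exists_cycle {e : ℕ} (hY : topologicalKrullDim Y = ((e + 1 : ℕ) : WithBot ℕ∞)) (he : 2 ≤ e)
    (hB : PicF.IsInvertible B) (σ : Coh.structureModule Y ⟶ B) {y₁ : Y} (hσ : y₁ ∈ CohB1.genLocus B σ) {Cs : Set Y}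
    (hC : topologicalKrullDim Cs < ((2 : ℕ) : WithBot ℕ∞)) {g : Y} (hg : g ∉ CohB1.genLocus B σ)
    (hspec : ∀ y, y ∉ CohB1.genLocus B σ → y ∉ Cs → g ⤳ y) :
    (∀ y, y ∉ CohB1.genLocus B σ → g ⤳ y) ∧ topologicalKrullDim (closure ({g} : Set Y)) = (e : WithBot ℕ∞) ∧
      ∃ m : ℕ, 0 < m ∧ ∀ z ∈ Nakai.Aug Y ^ e,
        IntLib.pairing K (Coh.structureModule Y) (Nakai.cl hB * z) = (m : ℤ) * IntLib.pairing K (IntLib.compMod g) z := by
  haveI := EulerIneqLib.isNoetherian_proper (X := Y) K
  have hall := zeros_subset_closure K hY he hB σ hC hspec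
  have hne : g ≠ genericPoint Y := fun h => by
    have h2 : genericPoint Y ∈ CohB1.genLocus B σ :=
      (genericPoint_specializes y₁).mem_open (CohB1.genLocus B σ).isOpen hσ
    exact hg (h ▸ h2)
  have hσ0 : σ ≠ 0 := fun h0 => by
    obtain ⟨ee, hee⟩ := ParaFLib.exists_stalk_gen hB y₁
    have hb := (AmpleLib.mem_genLocus_iff hB).1 hσ
    obtain ⟨r, hr⟩ := hb.2 ee
    have hs : sec σ = 0 := by subst h0; rfl
    simp only [hs, map_zero, smul_zero] at hr
    exact one_ne_zero (hee.1 (show (1 : Y.presheaf.stalk y₁) • ee = (0 : Y.presheaf.stalk y₁) • ee by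
      rw [← hr, smul_zero, smul_zero]))
  haveI := CurveLib.mono_of_ne_zero ParaFLib.isInvertible_structureModule hB hσ0
  have hdg : topologicalKrullDim (closure ({g} : Set Y)) = (e : WithBot ℕ∞) := by
    refine le_antisymm (IntLib.dim_le_of_lt ?_) (hall g hg).2
    exact HilbLib.dim_lt_of_notMem (ξ := genericPoint Y) isClosed_closure
      (fun y _ => specializes_iff_mem_closure.1 (genericPoint_specializes y))
      (fun h => hne ((specializes_iff_mem_closure.2 h).antisymm (genericPoint_specializes g)).eq)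
      (lt_of_le_of_lt (Topology.IsInducing.subtypeVal.topologicalKrullDim_le.trans hY.le)
        (by exact_mod_cast Nat.lt_succ_self (e + 1)))
  refine ⟨fun y hy => (hall y hy).1, hdg, ?_⟩
  obtain ⟨m, hm, hz⟩ := Nakai.exists_pairing_eq_mul K hdg
    (QCohLib.isCoh_kernel_cokernel σ (DevLib.isCoh_structureModule Y) (CurveLib.isCoh_of_isInvertible hB)).2
    (fun y hy => specializes_iff_mem_closure.1 (hall y ((mem_support_coker_iff hB σ y).1 hy)).1)
    ((mem_support_coker_iff hB σ g).2 hg)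
  refine ⟨m, hm, fun z hzm => ?_⟩
  rw [← Nakai.pairing_coker_section K hB σ z]
  exact hz z hzm

end Groth.Agent.GenCut

end
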