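import Groth.Agent.GenCutLib.Alg
import Groth.Agent.PullbackMod.Flat
import Groth.Agent.NumBddLib.ZeroFam

/-!
# The generic member of a linear system, over the field of its coefficients
-/

set_option autoImplicit false
set_option backward.isDefEq.respectTransparency false
set_option backward.isDefEq.respectTransparency.types false
set_option linter.style.haveILetI false

universe u

open CategoryTheory CategoryTheory.Limits AlgebraicGeometry TopologicalSpace Opposite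
open Groth.Agent.PullbackMod Groth.Agent.DCohLib Groth.Agent.ParaFLib Groth.Agent.AmpleLib

noncomputable section

namespace Groth.Agent.GenCut

variable (k : Type u) [Field k] (ι : Type) {X : Scheme.{u}} [X.Over (Spec (CommRingCat.of k))]

/-- The base change to the field of coefficients. -/
abbrev Y (X : Scheme.{u}) [X.Over (Spec (CommRingCat.of k))] : Scheme.{u} := Curv2.bc k X (GK k ι)

/-- The projection. -/
abbrev pi (X : Scheme.{u}) [X.Over (Spec (CommRingCat.of k))] : Y k ι X ⟶ X := Curv2.bcFst k X (GK k ι)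

/-- A coefficient as a global function. -/
def tg (X : Scheme.{u}) [X.Over (Spec (CommRingCat.of k))] (l : ι) : Γ(Y k ι X, ⊤) :=
  Coh.toGlobal (Curv2.bcSnd k X (GK k ι)) (algebraMap (MvPolynomial ι k) (GK k ι) (MvPolynomial.X l))

theorem mem_basicOpen_iff {Z : Scheme.{u}} {U : Z.Opens} (hU : IsAffineOpen U) {z : Z} (hz : z ∈ U) (f : Γ(Z, U)) :
    z ∈ Z.basicOpen f ↔ f ∉ (hU.primeIdealOf ⟨z, hz⟩).asIdeal := by
  have h : hU.primeIdealOf ⟨z, hz⟩ ∈ hU.fromSpec ⁻¹ᵁ Z.basicOpen f ↔ f ∉ (hU.primeIdealOf ⟨z, hz⟩).asIdeal := by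
    rw [hU.fromSpec_preimage_basicOpen]
    rfl
  exact (congrArg (fun w => w ∈ Z.basicOpen f) (hU.fromSpec_primeIdealOf ⟨z, hz⟩)).symm.to_iff.trans h

section Chart

variable [IsIntegral X]

theorem chart_data {W : X.Opens} (hW : IsAffineOpen W) (hne : (W : Set X).Nonempty) [Fintype ι] :
    IsAffineOpen (pi k ι X ⁻¹ᵁ W) ∧ IsDomain Γ(Y k ι X, pi k ι X ⁻¹ᵁ W) ∧
      Function.Injective ((pi k ι X).appLE W (pi k ι X ⁻¹ᵁ W) le_rfl) ∧
      ∀ (a : ι → Γ(X, W)) (j : ι), IsUnit (a j) →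
        let f : Γ(Y k ι X, pi k ι X ⁻¹ᵁ W) := ∑ l, (Y k ι X).presheaf.map (homOfLE le_top).op (tg k ι X l) *
          (pi k ι X).appLE W (pi k ι X ⁻¹ᵁ W) le_rfl (a l)
        f ≠ 0 ∧ (Ideal.span {f} = ⊤ ∨ ((Ideal.span {f}).IsPrime ∧
          (Ideal.span {f}).comap ((pi k ι X).appLE W (pi k ι X ⁻¹ᵁ W) le_rfl).hom = ⊥)) := by
  let K := GK k ι
  let sk : X ⟶ Spec (CommRingCat.of k) := X ↘ Spec (CommRingCat.of k)
  let g : Spec (CommRingCat.of K) ⟶ Spec (CommRingCat.of k) := Spec.map (CommRingCat.ofHom (algebraMap k K))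
  have hc : IsPullback (pullback.fst sk g) (pullback.snd sk g) sk g := IsPullback.of_hasPullback _ _
  have hV : IsAffineOpen (⊤ : (Spec (CommRingCat.of k)).Opens) := isAffineOpen_top _
  have hV' : IsAffineOpen (⊤ : (Spec (CommRingCat.of K)).Opens) := isAffineOpen_top _
  obtain ⟨W', hWW', hW'eq⟩ : ∃ W' : (Y k ι X).Opens, W' = pi k ι X ⁻¹ᵁ W ∧
      W' = pullback.fst sk g ⁻¹ᵁ W ⊓ pullback.snd sk g ⁻¹ᵁ ⊤ :=
    ⟨_, rfl, (inf_top_eq _).symm⟩
  subst hW'eq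
  suffices h : ∀ (W'' : (Y k ι X).Opens) (e₁ : W'' ≤ pi k ι X ⁻¹ᵁ W)
      (_ : W'' = pullback.fst sk g ⁻¹ᵁ W ⊓ pullback.snd sk g ⁻¹ᵁ ⊤),
      IsAffineOpen W'' ∧ IsDomain Γ(Y k ι X, W'') ∧ Function.Injective ((pi k ι X).appLE W W'' e₁) ∧
      ∀ (a : ι → Γ(X, W)) (j : ι), IsUnit (a j) →
        let f : Γ(Y k ι X, W'') := ∑ l, (Y k ι X).presheaf.map (homOfLE le_top).op (tg k ι X l) *
          (pi k ι X).appLE W W'' e₁ (a l)
        f ≠ 0 ∧ (Ideal.span {f} = ⊤ ∨ ((Ideal.span {f}).IsPrime ∧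
          (Ideal.span {f}).comap ((pi k ι X).appLE W W'' e₁).hom = ⊥)) by
    exact h _ le_rfl hWW'.symm
  rintro _ e₁ rfl
  obtain ⟨hW', -⟩ := Groth.Agent.PullbackMod.isPushout_appLE hc hV hW hV' (e := le_top) (e' := le_top)
  refine ⟨hW', ?_⟩
  set W' := pullback.fst sk g ⁻¹ᵁ W ⊓ pullback.snd sk g ⁻¹ᵁ ⊤
  haveI := isIso_pushoutSection_of_isAffineOpen hc (show (⊤ : (Spec (CommRingCat.of K)).Opens) ≤ g ⁻¹ᵁ ⊤ from le_top)
    (show W ≤ sk ⁻¹ᵁ ⊤ from le_top) (rfl : W' = W') hV hV' hW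
  have h := (isIso_pushoutSection_iff hc (show (⊤ : (Spec (CommRingCat.of K)).Opens) ≤ g ⁻¹ᵁ ⊤ from le_top)
    (show W ≤ sk ⁻¹ᵁ ⊤ from le_top) (rfl : W' = W')).mp inferInstance
  let σk := Scheme.ΓSpecIso (CommRingCat.of k)
  let σK := Scheme.ΓSpecIso (CommRingCat.of K)
  let a₀ : CommRingCat.of k ⟶ Γ(X, W) := σk.inv ≫ sk.appLE ⊤ W le_top
  let b : CommRingCat.of K ⟶ Γ(Y k ι X, W') := σK.inv ≫ (pullback.snd sk g).appLE ⊤ W' inf_le_right
  let c : Γ(X, W) ⟶ Γ(Y k ι X, W') := (pullback.fst sk g).appLE W W' inf_le_left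
  have hnat : σk.inv ≫ g.appLE ⊤ ⊤ le_top = CommRingCat.ofHom (algebraMap k K) ≫ σK.inv := by
    rw [Iso.inv_comp_eq, ← Category.assoc, Iso.eq_comp_inv]
    simp [σk, σK, g, Scheme.Hom.appLE]
  have hpo : IsPushout (CommRingCat.ofHom (algebraMap k K)) a₀ b c := by
    refine h.flip.of_iso σk σK (Iso.refl _) (Iso.refl _) ?_ ?_ ?_ ?_
    · rw [← Iso.eq_comp_inv, Category.assoc, ← hnat, Iso.hom_inv_id_assoc]
    · simp [a₀]
    · simp [b]
    · simp [c]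
  letI : Algebra k Γ(X, W) := a₀.hom.toAlgebra
  letI : Algebra K Γ(Y k ι X, W') := b.hom.toAlgebra
  letI : Algebra Γ(X, W) Γ(Y k ι X, W') := c.hom.toAlgebra
  letI : Algebra k Γ(Y k ι X, W') := (c.hom.comp a₀.hom).toAlgebra
  haveI : IsScalarTower k Γ(X, W) Γ(Y k ι X, W') := .of_algebraMap_eq fun _ => rfl
  haveI : IsScalarTower k K Γ(Y k ι X, W') := .of_algebraMap_eq fun r => by
    show (a₀ ≫ c) r = (CommRingCat.ofHom (algebraMap k K) ≫ b) r
    rw [hpo.w]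
  haveI : Algebra.IsPushout k K Γ(X, W) Γ(Y k ι X, W') := CommRingCat.isPushout_iff_isPushout.mp hpo
  haveI : Nonempty W := ⟨⟨_, hne.some_mem⟩⟩
  refine ⟨isDomain k ι (A := Γ(X, W)), algebraMap_injective k ι (A := Γ(X, W)), fun a j hj => ?_⟩
  have hf := generic_form k ι (A := Γ(X, W)) (R := Γ(Y k ι X, W')) a j hj
  rw [ev_form₀] at hf
  have e : (∑ l, (Y k ι X).presheaf.map (homOfLE le_top).op (tg k ι X l) * (pi k ι X).appLE W W' e₁ (a l)) =
      ∑ l, algebraMap Γ(X, W) Γ(Y k ι X, W') (a l) * tv k ι Γ(Y k ι X, W') l := by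
    refine Finset.sum_congr rfl fun l _ => ?_
    rw [mul_comm]
    congr 1
  intro f
  have ef : f = _ := e
  rw [ef]
  exact hf

end Chart

section Points

variable [IsIntegral X] [Fintype ι]

/-- The point over the generic point given by the zero ideal. -/
theorem exists_min_point {W : X.Opens} (hW : IsAffineOpen W) (hne : (W : Set X).Nonempty)
    (q : Ideal Γ(Y k ι X, pi k ι X ⁻¹ᵁ W)) [q.IsPrime]
    (hq : q.comap ((pi k ι X).appLE W (pi k ι X ⁻¹ᵁ W) le_rfl).hom = ⊥) :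
    ∃ g : Y k ι X, ∃ hg : g ∈ pi k ι X ⁻¹ᵁ W, pi k ι X g = genericPoint X ∧
      ((chart_data k ι hW hne).1.primeIdealOf ⟨g, hg⟩).asIdeal = q := by
  have hW' := (chart_data k ι hW hne).1
  let p : PrimeSpectrum Γ(Y k ι X, pi k ι X ⁻¹ᵁ W) := ⟨q, inferInstance⟩
  have hg : hW'.fromSpec p ∈ pi k ι X ⁻¹ᵁ W := hW'.range_fromSpec.le ⟨p, rfl⟩
  have hp : hW'.primeIdealOf ⟨hW'.fromSpec p, hg⟩ = p :=
    hW'.fromSpec.isOpenEmbedding.injective (hW'.fromSpec_primeIdealOf _)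
  refine ⟨hW'.fromSpec p, hg, ?_, by rw [hp]⟩
  have hηW : genericPoint X ∈ W := (genericPoint_specializes hne.some).mem_open W.isOpen hne.some_mem
  haveI : Nonempty W := ⟨⟨_, hηW⟩⟩
  have h1 := IsAffineOpen.comap_primeIdealOf_appLE (f := pi k ι X) W hW (pi k ι X ⁻¹ᵁ W) hW' le_rfl hg
  rw [hp] at h1
  refine (hW.fromSpec_primeIdealOf ⟨pi k ι X (hW'.fromSpec p), hg⟩).symm.trans
    (Eq.trans ?_ (hW.fromSpec_primeIdealOf ⟨genericPoint X, hηW⟩))
  refine congrArg _ ?_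
  rw [hW.primeIdealOf_genericPoint]
  rw [genericPoint_eq_bot_of_affine, ← h1]
  exact PrimeSpectrum.ext hq

theorem specializes_of_le {W : X.Opens} (hW : IsAffineOpen W) (hne : (W : Set X).Nonempty)
    {g y : Y k ι X} (hg : g ∈ pi k ι X ⁻¹ᵁ W) (hy : y ∈ pi k ι X ⁻¹ᵁ W)
    (h : ((chart_data k ι hW hne).1.primeIdealOf ⟨g, hg⟩).asIdeal ≤
      ((chart_data k ι hW hne).1.primeIdealOf ⟨y, hy⟩).asIdeal) : g ⤳ y := by
  have hW' := (chart_data k ι hW hne).1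
  have h1 : hW'.primeIdealOf ⟨g, hg⟩ ⤳ hW'.primeIdealOf ⟨y, hy⟩ := (PrimeSpectrum.le_iff_specializes _ _).1 h
  have h2 := h1.map hW'.fromSpec.continuous
  rw [hW'.fromSpec_primeIdealOf, hW'.fromSpec_primeIdealOf] at h2
  exact h2

/-- The base change is integral. -/
theorem isIntegral_Y [Nonempty (Y k ι X)] : IsIntegral (Y k ι X) := by
  have hch : ∀ y : Y k ι X, ∃ W : X.Opens, IsAffineOpen W ∧ pi k ι X y ∈ W := fun y => by
    obtain ⟨_, ⟨W, hW, rfl⟩, hy, -⟩ :=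
      X.isBasis_affineOpens.exists_subset_of_mem_open (Set.mem_univ (pi k ι X y)) isOpen_univ
    exact ⟨W, hW, hy⟩
  choose W hW hyW using hch
  have key : ∀ y : Y k ι X, ∃ g, pi k ι X g = genericPoint X ∧ g ⤳ y ∧
      ∀ y', pi k ι X y' ∈ W y → g ⤳ y' := fun y => by
    obtain ⟨hW', hdom, hinj, -⟩ := chart_data k ι (hW y) ⟨_, hyW y⟩
    haveI := hdom
    obtain ⟨g, hg, hgη, hgp⟩ := exists_min_point k ι (hW y) ⟨_, hyW y⟩ (⊥ : Ideal Γ(Y k ι X, pi k ι X ⁻¹ᵁ W y))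
      (Ideal.ext fun z => by
        rw [Ideal.mem_comap, Ideal.mem_bot, Ideal.mem_bot]
        exact ⟨fun h => hinj (h.trans (map_zero _).symm), fun h => by rw [h, map_zero]⟩)
    refine ⟨g, hgη, ?_, fun y' hy' => ?_⟩
    · exact specializes_of_le k ι (hW y) ⟨_, hyW y⟩ hg (hyW y) (hgp.le.trans bot_le)
    · exact specializes_of_le k ι (hW y) ⟨_, hyW y⟩ hg hy' (hgp.le.trans bot_le)
  choose g hgη hgy hgW using key
  have hall : ∀ y y' : Y k ι X, g y ⤳ y' := fun y y' => by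
    have hm : ∀ a b : Y k ι X, g a ⤳ g b := fun a b => hgW a (g b) (by
      rw [hgη]; exact (genericPoint_specializes _).mem_open (W a).isOpen (hyW a))
    exact (hm y y').trans (hgy y')
  haveI : IrreducibleSpace (Y k ι X) := by
    obtain ⟨y₀⟩ := ‹Nonempty (Y k ι X)›
    have : closure ({g y₀} : Set (Y k ι X)) = Set.univ :=
      Set.eq_univ_of_forall fun y => specializes_iff_mem_closure.1 (hall y₀ y)
    have h2 := (isIrreducible_singleton (x := g y₀)).closure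
    rw [this] at h2
    exact (irreducibleSpace_def _).2 h2
  haveI : IsReduced (Y k ι X) := by
    haveI : ∀ y : Y k ι X, _root_.IsReduced ((Y k ι X).presheaf.stalk y) := fun y => by
      obtain ⟨hW', hdom, -, -⟩ := chart_data k ι (hW y) ⟨_, hyW y⟩
      haveI := hdom
      letI : Algebra Γ(Y k ι X, pi k ι X ⁻¹ᵁ W y) ((Y k ι X).presheaf.stalk y) :=
        TopCat.Presheaf.algebra_section_stalk (Y k ι X).presheaf (⟨y, hyW y⟩ : ↥(pi k ι X ⁻¹ᵁ W y))
      haveI := hW'.isLocalization_stalk ⟨y, hyW y⟩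
      exact isReduced_localizationPreserves (hW'.primeIdealOf ⟨y, hyW y⟩).asIdeal.primeCompl
        ((Y k ι X).presheaf.stalk y) inferInstance
    exact isReduced_of_isReduced_stalk _
  exact isIntegral_of_irreducibleSpace_of_isReduced _

variable {B : X.Modules} (s : ι → (Coh.structureModule X ⟶ B))

/-- The generic section. -/
def gSec : Coh.structureModule (Y k ι X) ⟶ (Scheme.Modules.pullback (pi k ι X)).obj B :=
  secHom _ (∑ l, tg k ι X l • sec (RelVALib.pullSec (pi k ι X) (s l)))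

/-- The zero locus of the generic section in a chart. -/
theorem genLocus_chart (hB : PicF.IsInvertible B) {W : X.Opens} {b : Γ(B, W)} (hb : Gen W b)
    (d : ι → Γ(X, W)) (hd : ∀ l, d l • b = resT (sec (s l)) W) :
    CohB1.genLocus _ (gSec k ι s) ⊓ pi k ι X ⁻¹ᵁ W =
      (Y k ι X).basicOpen (∑ l, (Y k ι X).presheaf.map (homOfLE le_top).op (tg k ι X l) *
        (pi k ι X).appLE W (pi k ι X ⁻¹ᵁ W) le_rfl (d l)) := by
  refine genLocus_inf_eq_basicOpen (gSec k ι s) (CubeLib.gen_pullMap (pi k ι X) hB hb le_rfl) ?_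
  rw [Finset.sum_smul, gSec, sec_secHom, resT, map_sum]
  refine Finset.sum_congr rfl fun l _ => ?_
  rw [Scheme.Modules.map_smul, mul_smul, ← pullMap_smul, hd l]
  congr 1
  rw [RelVALib.sec_pullSec]
  exact (pullMap_res (pi k ι X) B _ le_top le_top le_rfl (sec (s l))).symm

/-- Common zeros of the sections are zeros of the generic section. -/
theorem notMem_genLocus (hB : PicF.IsInvertible B) {y : Y k ι X}
    (hy : ∀ l, pi k ι X y ∉ CohB1.genLocus B (s l)) : y ∉ CohB1.genLocus _ (gSec k ι s) := by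
  intro hmem
  obtain ⟨W, b, hyW, -, hb⟩ := ZeroFam.exists_affine_gen hB (Opens.mem_top (pi k ι X y))
  choose d hd using fun l => (hb W.1 le_rfl).2 (resT (sec (s l)) W.1)
  simp only [ParaFLib.res_self] at hd
  have h1 : y ∈ CohB1.genLocus _ (gSec k ι s) ⊓ pi k ι X ⁻¹ᵁ W.1 := ⟨hmem, hyW⟩
  rw [genLocus_chart k ι s hB hb d hd] at h1
  have hW' := (chart_data k ι W.2 ⟨_, hyW⟩).1
  have hx : ∀ l, d l ∈ (W.2.primeIdealOf ⟨pi k ι X y, hyW⟩).asIdeal := fun l => by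
    by_contra hn
    refine hy l ?_
    have h2 : pi k ι X y ∈ X.basicOpen (d l) := by
      have h3 : W.2.primeIdealOf ⟨pi k ι X y, hyW⟩ ∈ W.2.fromSpec ⁻¹ᵁ X.basicOpen (d l) := by
        rw [W.2.fromSpec_preimage_basicOpen]
        exact hn
      have h4 := W.2.fromSpec_primeIdealOf ⟨pi k ι X y, hyW⟩
      exact (congrArg (fun z => z ∈ X.basicOpen (d l)) h4).mp h3
    rw [← genLocus_inf_eq_basicOpen (s l) hb (hd l)] at h2
    exact h2.1
  have h3 : hW'.primeIdealOf ⟨y, hyW⟩ ∈ hW'.fromSpec ⁻¹ᵁ (Y k ι X).basicOpen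
      (∑ l, (Y k ι X).presheaf.map (homOfLE le_top).op (tg k ι X l) *
        (pi k ι X).appLE W.1 (pi k ι X ⁻¹ᵁ W.1) le_rfl (d l)) := by
    have h6 := hW'.fromSpec_primeIdealOf ⟨y, hyW⟩
    exact (congrArg (fun z => z ∈ (Y k ι X).basicOpen _) h6).mpr h1
  rw [hW'.fromSpec_preimage_basicOpen] at h3
  refine h3 (Ideal.sum_mem _ fun l _ => Ideal.mul_mem_left _ _ ?_)
  have h4 := IsAffineOpen.comap_primeIdealOf_appLE (f := pi k ι X) W.1 W.2 (pi k ι X ⁻¹ᵁ W.1) hW' le_rfl hyW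
  have h5 := hx l
  rw [← h4] at h5
  exact h5

theorem nonzero_chart (hB : PicF.IsInvertible B) {j : ι} {x : X} (hx : x ∈ CohB1.genLocus B (s j)) :
    ∃ (W : X.affineOpens) (b : Γ(B, W.1)) (d : ι → Γ(X, W.1)), x ∈ W.1 ∧ Gen W.1 b ∧
      (∀ l, d l • b = resT (sec (s l)) W.1) ∧ IsUnit (d j) := by
  obtain ⟨W, b, hxW, hle, hb⟩ := ZeroFam.exists_affine_gen hB hx
  choose d hd using fun l => (hb W.1 le_rfl).2 (resT (sec (s l)) W.1)
  simp only [ParaFLib.res_self] at hd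
  refine ⟨W, b, d, hxW, hb, hd, ?_⟩
  have h : X.basicOpen (d j) = W.1 :=
    (genLocus_inf_eq_basicOpen (s j) hb (hd j)).symm.trans (inf_eq_right.2 hle)
  by_contra hn
  obtain ⟨m, hm, hdm⟩ := exists_max_ideal_of_mem_nonunits hn
  have h1 : W.2.fromSpec ⟨m, hm.isPrime⟩ ∈ X.basicOpen (d j) :=
    h.ge (W.2.range_fromSpec.le ⟨_, rfl⟩)
  have h2 : (⟨m, hm.isPrime⟩ : PrimeSpectrum Γ(X, W.1)) ∈ W.2.fromSpec ⁻¹ᵁ X.basicOpen (d j) := h1
  rw [W.2.fromSpec_preimage_basicOpen] at h2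
  exact h2 hdm

/-- The zeros outside the common zeros are specializations of one point over the generic point. -/
theorem exists_generic (hB : PicF.IsInvertible B) {y₀ : Y k ι X} (hy₀ : y₀ ∉ CohB1.genLocus _ (gSec k ι s))
    {j₀ : ι} (hj₀ : pi k ι X y₀ ∈ CohB1.genLocus B (s j₀)) :
    ∃ g : Y k ι X, g ∉ CohB1.genLocus _ (gSec k ι s) ∧ pi k ι X g = genericPoint X ∧
      ∀ y, y ∉ CohB1.genLocus _ (gSec k ι s) → (∃ j, pi k ι X y ∈ CohB1.genLocus B (s j)) → g ⤳ y := by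
  have key : ∀ y : Y k ι X, y ∉ CohB1.genLocus _ (gSec k ι s) → ∀ j, pi k ι X y ∈ CohB1.genLocus B (s j) →
      ∃ g, g ∉ CohB1.genLocus _ (gSec k ι s) ∧ pi k ι X g = genericPoint X ∧ g ⤳ y ∧
        ∀ g', g' ∉ CohB1.genLocus _ (gSec k ι s) → pi k ι X g' = genericPoint X → g ⤳ g' := by
    intro y hy j hj
    obtain ⟨W, b, d, hyW, hb, hd, hu⟩ := nonzero_chart ι s hB hj
    obtain ⟨hW', -, -, hform⟩ := chart_data k ι W.2 ⟨_, hyW⟩
    obtain ⟨-, hform⟩ := hform d j hu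
    set f := ∑ l, (Y k ι X).presheaf.map (homOfLE le_top).op (tg k ι X l) *
        (pi k ι X).appLE W.1 (pi k ι X ⁻¹ᵁ W.1) le_rfl (d l)
    have hzero : ∀ z (hz : z ∈ pi k ι X ⁻¹ᵁ W.1), z ∉ CohB1.genLocus _ (gSec k ι s) ↔
        f ∈ (hW'.primeIdealOf ⟨z, hz⟩).asIdeal := fun z hz => by
      have h1 := mem_basicOpen_iff hW' hz f
      rw [← genLocus_chart k ι s hB hb d hd] at h1
      exact ⟨fun h => by_contra fun hn => h (h1.2 hn).1, fun h hm => h1.1 ⟨hm, hz⟩ h⟩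
    rcases hform with htop | ⟨hprime, hcomap⟩
    · exact absurd (Ideal.span_le.2 (Set.singleton_subset_iff.2 ((hzero y hyW).1 hy)) (htop ▸ Submodule.mem_top :
        (1 : _) ∈ Ideal.span {f})) ((hW'.primeIdealOf ⟨y, hyW⟩).isPrime.ne_top ∘ (Ideal.eq_top_iff_one _).2)
    haveI := hprime
    obtain ⟨g, hg, hgη, hgp⟩ := exists_min_point k ι W.2 ⟨_, hyW⟩ (Ideal.span {f}) hcomap
    refine ⟨g, (hzero g hg).2 (hgp.ge (Ideal.mem_span_singleton_self f)), hgη, ?_, fun g' hg' hg'η => ?_⟩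
    · refine specializes_of_le k ι W.2 ⟨_, hyW⟩ hg hyW (hgp.le.trans ?_)
      exact Ideal.span_le.2 (Set.singleton_subset_iff.2 ((hzero y hyW).1 hy))
    · have hgW : g' ∈ pi k ι X ⁻¹ᵁ W.1 := by
        show pi k ι X g' ∈ W.1
        rw [hg'η]
        exact (genericPoint_specializes _).mem_open W.1.isOpen hyW
      refine specializes_of_le k ι W.2 ⟨_, hyW⟩ hg hgW (hgp.le.trans ?_)
      exact Ideal.span_le.2 (Set.singleton_subset_iff.2 ((hzero g' hgW).1 hg'))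
  obtain ⟨g, hgZ, hgη, -, hg⟩ := key y₀ hy₀ j₀ hj₀
  refine ⟨g, hgZ, hgη, fun y hy ⟨j, hj⟩ => ?_⟩
  obtain ⟨g', hg'Z, hg'η, hg'y, -⟩ := key y hy j hj
  exact (hg g' hg'Z hg'η).trans hg'y

/-- The generic section is not zero at some point over the generic point. -/
theorem exists_mem_genLocus (hB : PicF.IsInvertible B) {j : ι} {x : X} (hx : x ∈ CohB1.genLocus B (s j)) :
    ∃ y, y ∈ CohB1.genLocus _ (gSec k ι s) := by
  obtain ⟨W, b, d, hxW, hb, hd, hu⟩ := nonzero_chart ι s hB hx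
  obtain ⟨hW', hdom, hinj, hform⟩ := chart_data k ι W.2 ⟨_, hxW⟩
  obtain ⟨hne0, -⟩ := hform d j hu
  haveI := hdom
  obtain ⟨g, hg, -, hgp⟩ := exists_min_point k ι W.2 ⟨_, hxW⟩ (⊥ : Ideal Γ(Y k ι X, pi k ι X ⁻¹ᵁ W.1))
    (Ideal.ext fun z => by
      rw [Ideal.mem_comap, Ideal.mem_bot, Ideal.mem_bot]
      exact ⟨fun h => hinj (h.trans (map_zero _).symm), fun h => by rw [h, map_zero]⟩)
  refine ⟨g, (?_ : g ∈ CohB1.genLocus _ (gSec k ι s) ⊓ pi k ι X ⁻¹ᵁ W.1).1⟩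
  rw [genLocus_chart k ι s hB hb d hd, mem_basicOpen_iff hW' hg]
  rw [hgp, Ideal.mem_bot]
  exact hne0

end Points

end Groth.Agent.GenCut

end
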