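import Groth.Agent.GenCutLib.Generic
import Groth.Agent.GenCutLib.Cut
import Groth.Agent.GenCutLib.Base

/-!
# The index theorem in higher dimension: orthogonal classes with non-negative square are numerically trivial
-/

set_option autoImplicit false
set_option backward.isDefEq.respectTransparency false
set_option backward.isDefEq.respectTransparency.types false
set_option linter.style.haveILetI false

universe u

open CategoryTheory CategoryTheory.Limits AlgebraicGeometry TopologicalSpace Opposite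
open Groth.Agent.PullbackMod Groth.Agent.DCohLib Groth.Agent.AmpleLib
open Groth.Agent.IntLib (PicRing pairing compMod)

noncomputable section

namespace Groth.Agent.GenCut

/-- Finitely many sections of one power of an ample module with a given closed set as common zeros. -/
theorem exists_sections {X : Scheme.{u}} [IsNoetherian X] {H : X.Modules} (hH : CohB1.IsAmple H) {C : Set X}
    (hC : IsClosed C) :
    ∃ (a N : ℕ) (s : Fin N → (Coh.structureModule X ⟶ CohB1.tensorPow H a)), 0 < a ∧
      ∀ x, (∃ j, x ∈ CohB1.genLocus _ (s j)) ↔ x ∉ C := by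
  classical
  have h1 : ∀ x : ↥(Cᶜ), ∃ (n : ℕ) (t : Coh.structureModule X ⟶ CohB1.tensorPow H (n + 1)),
      x.1 ∈ CohB1.genLocus _ t ∧ CohB1.genLocus _ t ≤ ⟨Cᶜ, hC.isOpen_compl⟩ := fun x => by
    obtain ⟨n, t, hx, hle, -⟩ := AmpleLib.exists_small_genLocus hH (U := ⟨Cᶜ, hC.isOpen_compl⟩) x.2
    exact ⟨n, t, hx, hle⟩
  choose n t hx hle using h1
  obtain ⟨F, hF⟩ := (TopologicalSpace.NoetherianSpace.isCompact (Cᶜ : Set X)).elim_finite_subcover
    (fun x => (CohB1.genLocus _ (t x) : Set X)) (fun x => (CohB1.genLocus _ (t x)).isOpen)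
    (fun y hy => Set.mem_iUnion.2 ⟨⟨y, hy⟩, hx _⟩)
  let a := ∏ x ∈ F, (n x + 1)
  have ha : 0 < a := Finset.prod_pos fun x _ => Nat.succ_pos _
  have hdvd : ∀ x ∈ F, ∃ m, a = (n x + 1) * (m + 1) := fun x hxF => by
    obtain ⟨m, hm⟩ := Finset.dvd_prod_of_mem (fun x => n x + 1) hxF
    rcases m with _ | m
    · exact absurd (hm.trans (mul_zero _)) ha.ne'
    · exact ⟨m, hm⟩
  choose m hm using hdvd
  let e := F.equivFin
  let x' : Fin F.card → ↥(Cᶜ) := fun j => (e.symm j).1
  let θ : ∀ j, CohB1.tensorPow (CohB1.tensorPow H (n (x' j) + 1)) (m (x' j) (e.symm j).2 + 1) ≅ CohB1.tensorPow H a :=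
    fun j => powMul H _ _ ≪≫ eqToIso (congrArg (CohB1.tensorPow H) (hm (x' j) (e.symm j).2).symm)
  let s : Fin F.card → (Coh.structureModule X ⟶ CohB1.tensorPow H a) := fun j =>
    powS (t (x' j)) (m (x' j) (e.symm j).2 + 1) ≫ (θ j).hom
  have hs : ∀ j, CohB1.genLocus _ (s j) = CohB1.genLocus _ (t (x' j)) := fun j =>
    (genLocus_comp_iso _ _).trans (genLocus_powS (isInvertible_tensorPow hH.1 _) _ _)
  refine ⟨a, F.card, s, ha, fun y => ⟨fun ⟨j, hj⟩ => ?_, fun hy => ?_⟩⟩
  · exact hle _ (hs j ▸ hj : y ∈ CohB1.genLocus _ (t (x' j)))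
  · obtain ⟨x, hxF, hxy⟩ := Set.mem_iUnion₂.1 (hF hy)
    refine ⟨e ⟨x, hxF⟩, ?_⟩
    rw [hs]
    have he : x' (e ⟨x, hxF⟩) = x := by simp [x']
    rw [he]
    exact hxy

theorem surjective_bcFst (k : Type u) [Field k] {X : Scheme.{u}} [X.Over (Spec (CommRingCat.of k))]
    (K : Type u) [Field K] [Algebra k K] : Function.Surjective (Curv2.bcFst k X K) := by
  haveI : Surjective (Spec.map (CommRingCat.ofHom (algebraMap k K))) :=
    ⟨fun y => ⟨IsLocalRing.closedPoint K, @Subsingleton.elim _ (inferInstance : Subsingleton (PrimeSpectrum k)) _ _⟩⟩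
  haveI : Surjective (Curv2.bcFst k X K) := MorphismProperty.pullback_fst (P := @Surjective) _ _ inferInstance
  exact (Curv2.bcFst k X K).surjective

/-- A class orthogonal to the powers of an ample class, with non-negative square, is zero on every curve. -/
def IndexOK (e : ℕ) : Prop :=
  ∀ (k : Type u) [Field k] (X : Scheme.{u}) [X.Over (Spec (CommRingCat.of k))] [IsProper (X ↘ Spec (CommRingCat.of k))]
    [IrreducibleSpace X], topologicalKrullDim X = ((e + 2 : ℕ) : WithBot ℕ∞) → ∀ (H : X.Modules) (hH : CohB1.IsAmple H)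
    (u : PicRing X), u ∈ Nakai.Aug X → pairing k (Coh.structureModule X) (u * Nakai.cl hH.1 ^ (e + 1)) = 0 →
    0 ≤ pairing k (Coh.structureModule X) (u * u * Nakai.cl hH.1 ^ e) →
    ∀ ξ : X, topologicalKrullDim (closure {ξ} : Set X) = ((1 : ℕ) : WithBot ℕ∞) → pairing k (compMod ξ) u = 0

theorem indexOK_zero : IndexOK.{u} 0 := by
  intro k _ X _ _ _ hdim H hH u hu horth hsq ξ hξ
  refine Nakai.hodge_proper k hdim hu (Nakai.cl_mem hH.1) (Nakai.form_ample_pos k hdim hH) ?_ ?_ hξ
  · simpa [Nakai.form] using horth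
  · simpa [Nakai.form] using hsq

/-- Integral schemes: one cut. -/
theorem index_step {e : ℕ} (ih : IndexOK.{u} e) (k : Type u) [Field k] (X : Scheme.{u})
    [X.Over (Spec (CommRingCat.of k))] [IsProper (X ↘ Spec (CommRingCat.of k))] [IsIntegral X]
    (hdim : topologicalKrullDim X = ((e + 1 + 2 : ℕ) : WithBot ℕ∞)) {H : X.Modules} (hH : CohB1.IsAmple H)
    {u : PicRing X} (hu : u ∈ Nakai.Aug X)
    (horth : pairing k (Coh.structureModule X) (u * Nakai.cl hH.1 ^ (e + 1 + 1)) = 0)
    (hsq : 0 ≤ pairing k (Coh.structureModule X) (u * u * Nakai.cl hH.1 ^ (e + 1))) {ξ : X}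
    (hξ : topologicalKrullDim (closure {ξ} : Set X) = ((1 : ℕ) : WithBot ℕ∞)) :
    pairing k (compMod ξ) u = 0 := by
  haveI := EulerIneqLib.isNoetherian_proper (X := X) k
  obtain ⟨a, N, s, ha, hs⟩ := exists_sections hH (C := closure {ξ}) isClosed_closure
  have hB : PicF.IsInvertible (CohB1.tensorPow H a) := isInvertible_tensorPow hH.1 a
  let K := GK k (Fin N)
  let π : Curv2.bc k X K ⟶ X := Curv2.bcFst k X K
  haveI : Nonempty (Y k (Fin N) X) := ⟨(surjective_bcFst k K ξ).choose⟩
  haveI : IsIntegral (Curv2.bc k X K) := isIntegral_Y k (Fin N)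
  haveI := EulerIneqLib.isNoetherian_proper (X := Curv2.bc k X K) K
  have hdY : topologicalKrullDim (Curv2.bc k X K) = ((e + 2 + 1 : ℕ) : WithBot ℕ∞) := (dim_bc k K).trans hdim
  let σ := gSec k (Fin N) s
  have hBY : PicF.IsInvertible ((Scheme.Modules.pullback π).obj (CohB1.tensorPow H a)) := isInvertible_pullback π hB
  let Cs : Set (Curv2.bc k X K) := π ⁻¹' closure {ξ}
  have hCs : topologicalKrullDim Cs < ((2 : ℕ) : WithBot ℕ∞) := by
    rw [dim_preimage_closure k K ξ, hξ]; exact_mod_cast Nat.one_lt_two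
  have hCzero : ∀ y ∈ Cs, y ∉ CohB1.genLocus _ σ := fun y hy =>
    notMem_genLocus k (Fin N) s hB fun l hl => (hs (π y)).1 ⟨l, hl⟩ hy
  have hoff : ∀ y, y ∉ Cs → ∃ j, π y ∈ CohB1.genLocus _ (s j) := fun y hy => (hs (π y)).2 hy
  obtain ⟨x, hx⟩ : ∃ x : X, x ∉ closure ({ξ} : Set X) := by
    by_contra hall
    push Not at hall
    have h1 : topologicalKrullDim X ≤ ((1 : ℕ) : WithBot ℕ∞) := by
      rw [← hξ, Set.eq_univ_of_forall hall, (Homeomorph.Set.univ X).isHomeomorph.topologicalKrullDim_eq]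
    rw [hdim] at h1
    exact absurd (by exact_mod_cast h1 : e + 1 + 2 ≤ 1) (by omega)
  obtain ⟨j, hj⟩ := (hs x).2 hx
  obtain ⟨y₁, hy₁⟩ := exists_mem_genLocus k (Fin N) s hB hj
  -- a zero off the small set
  obtain ⟨y₀, hy₀, hy₀C⟩ : ∃ y, y ∉ CohB1.genLocus _ σ ∧ y ∉ Cs := by
    by_contra hcon
    push Not at hcon
    obtain ⟨z, hz⟩ := surjective_bcFst k K ξ
    have hzC : z ∈ Cs := show π z ∈ closure {ξ} by rw [hz]; exact subset_closure rfl
    have h1 := zeros_subset_closure K hdY (by omega) hBY σ hCs (g := z) (fun y hy hyC => absurd (hcon y hy) hyC) z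
      (hCzero z hzC)
    have h2 : topologicalKrullDim (closure ({z} : Set _)) < ((2 : ℕ) : WithBot ℕ∞) :=
      lt_of_le_of_lt (Topology.IsEmbedding.inclusion (closure_minimal (Set.singleton_subset_iff.2 hzC)
        (isClosed_closure.preimage π.continuous))).isInducing.topologicalKrullDim_le hCs
    exact absurd (by exact_mod_cast lt_of_le_of_lt h1.2 h2 : e + 2 < 2) (by omega)
  obtain ⟨j₀, hj₀⟩ := hoff y₀ hy₀C
  obtain ⟨g, hg, -, hgspec⟩ := exists_generic k (Fin N) s hB hy₀ hj₀
  obtain ⟨hirr, hdg, m, hm, hcut⟩ := exists_cycle K hdY (by omega) hBY σ hy₁ hCs hg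
    fun y hy hyC => hgspec y hy (hoff y hyC)
  -- the divisor
  let J := Scheme.IdealSheafData.vanishingIdeal (⟨closure {g}, isClosed_closure⟩ : Closeds (Curv2.bc k X K))
  let i : J.subscheme ⟶ Curv2.bc k X K := J.subschemeι
  have hr : Set.range i = closure {g} := by
    rw [Scheme.IdealSheafData.range_subschemeι, Scheme.IdealSheafData.coe_support_vanishingIdeal]; rfl
  haveI : IsIntegral J.subscheme := CurveLib.isIntegral_vanishingIdeal isClosed_closure isIrreducible_singleton.closure
  letI : J.subscheme.Over (Spec (CommRingCat.of K)) := ⟨i ≫ (Curv2.bc k X K ↘ Spec (CommRingCat.of K))⟩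
  haveI : IsProper (J.subscheme ↘ Spec (CommRingCat.of K)) :=
    inferInstanceAs (IsProper (i ≫ (Curv2.bc k X K ↘ Spec (CommRingCat.of K))))
  have hdZ : topologicalKrullDim J.subscheme = ((e + 2 : ℕ) : WithBot ℕ∞) := by
    rw [i.isEmbedding.toHomeomorph.isHomeomorph.topologicalKrullDim_eq, hr, hdg]
  let F : PicRing X →+* PicRing J.subscheme := (Nakai.pullRing i).comp (Nakai.pullRing π)
  let u' : PicRing J.subscheme := F u
  have hHY : CohB1.IsAmple ((Scheme.Modules.pullback π).obj H) := by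
    haveI : IsAffineHom π := MorphismProperty.pullback_fst (P := @IsAffineHom) _ _ inferInstance
    exact isAmple_pullback π hH
  have hHZ : CohB1.IsAmple ((Scheme.Modules.pullback i).obj ((Scheme.Modules.pullback π).obj H)) :=
    isAmple_pullback i hHY
  have hcl : F (Nakai.cl hH.1) = Nakai.cl hHZ.1 := by
    show Nakai.pullRing i (Nakai.pullRing π (Nakai.cl hH.1)) = _
    rw [Nakai.pullRing_cl, Nakai.pullRing_cl]
  have hu' : u' ∈ Nakai.Aug J.subscheme := by
    have h := Nakai.pullRing_mem i (d := 1) (z := Nakai.pullRing π u)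
      (Nakai.pullRing_mem π (d := 1) (z := u) (by simpa using hu))
    show Nakai.pullRing i (Nakai.pullRing π u) ∈ _
    simpa using h
  have key : ∀ z ∈ Nakai.Aug X ^ (e + 2), (m : ℤ) * pairing K (Coh.structureModule J.subscheme) (F z) =
      (a : ℤ) * pairing k (Coh.structureModule X) (Nakai.cl hH.1 * z) := fun z hz => by
    have h1 := hcut _ (Nakai.pullRing_mem π hz)
    have h2 : pairing K (compMod g) (Nakai.pullRing π z) = pairing K (Coh.structureModule J.subscheme) (F z) :=
      Nakai.pairing_push K i rfl (DevLib.isCoh_structureModule _) _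
    rw [← h2, ← h1, ← Nakai.pullRing_cl π hB, ← map_mul, pairing_bc_unit k K]
    have hmem : Nakai.cl hB * z - (a : ℤ) • (Nakai.cl hH.1 * z) ∈ Nakai.Aug X ^ (2 + (e + 2)) := by
      rw [pow_add, zsmul_eq_mul, Int.cast_natCast, show Nakai.cl hB * z - (a : PicRing X) * (Nakai.cl hH.1 * z) =
        (Nakai.cl hB - (a : PicRing X) * Nakai.cl hH.1) * z by ring]
      exact Ideal.mul_mem_mul (Nakai.cl_tensorPow_sub_mem hH.1 a) hz
    rw [Nakai.pairing_congr k hmem (DevLib.isCoh_structureModule X) (lt_of_le_of_lt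
      (Topology.IsInducing.subtypeVal.topologicalKrullDim_le.trans hdim.le)
      (by exact_mod_cast (show e + 1 + 2 < 2 + (e + 2) by omega))), map_zsmul, smul_eq_mul]
  have hpowm : ∀ n, Nakai.cl hH.1 ^ n ∈ Nakai.Aug X ^ n := fun n => Ideal.pow_mem_pow (Nakai.cl_mem _) n
  have horth' : pairing K (Coh.structureModule J.subscheme) (u' * Nakai.cl hHZ.1 ^ (e + 1)) = 0 := by
    have h := key (u * Nakai.cl hH.1 ^ (e + 1)) (by
      rw [show e + 2 = 1 + (e + 1) by omega, pow_add _ 1, pow_one]
      exact Ideal.mul_mem_mul hu (hpowm _))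
    rw [map_mul F, map_pow F, hcl, show Nakai.cl hH.1 * (u * Nakai.cl hH.1 ^ (e + 1)) = u * Nakai.cl hH.1 ^ (e + 1 + 1) by ring,
      horth, mul_zero] at h
    exact (mul_eq_zero.1 h).resolve_left (by exact_mod_cast hm.ne')
  have hsq' : 0 ≤ pairing K (Coh.structureModule J.subscheme) (u' * u' * Nakai.cl hHZ.1 ^ e) := by
    have h := key (u * u * Nakai.cl hH.1 ^ e) (by
      rw [show e + 2 = 1 + 1 + e by omega, pow_add _ (1 + 1), pow_add _ 1, pow_one]
      exact Ideal.mul_mem_mul (Ideal.mul_mem_mul hu hu) (hpowm _))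
    rw [map_mul F, map_mul F, map_pow F, hcl,
      show Nakai.cl hH.1 * (u * u * Nakai.cl hH.1 ^ e) = u * u * Nakai.cl hH.1 ^ (e + 1) by ring] at h
    exact nonneg_of_mul_nonneg_right (le_of_le_of_eq (mul_nonneg (Int.natCast_nonneg a) hsq) h.symm)
      (by exact_mod_cast hm)
  have hIH := ih K J.subscheme hdZ _ hHZ u' hu' horth' hsq'
  -- the curve
  rw [← pairing_bc k K (IntLib.isPiece_compMod ξ).coh u]
  set G := (Scheme.Modules.pullback π).obj (compMod ξ) with hG
  have hGc : Coh.IsCoh G := PullbackMod.isCoh_pullback π (compMod ξ) (IntLib.isPiece_compMod ξ).coh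
  have hGs : CohB1.support G ⊆ Cs := by
    haveI := (IntLib.isPiece_compMod ξ).coh.1
    exact (ClSubLib.support_pullback_subset π (compMod ξ)).trans
      (Set.preimage_mono fun y hy => specializes_iff_mem_closure.1 ((IntLib.isPiece_compMod ξ).supp y hy))
  have hGd : topologicalKrullDim (CohB1.support G) < ((1 + 1 : ℕ) : WithBot ℕ∞) :=
    lt_of_le_of_lt (Topology.IsEmbedding.inclusion hGs).isInducing.topologicalKrullDim_le hCs
  have hpt : ∀ y ∈ CohB1.support G, topologicalKrullDim (closure {y} : Set (Curv2.bc k X K)) = ((1 : ℕ) : WithBot ℕ∞) →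
      pairing K (compMod y) (Nakai.pullRing π u) = 0 := fun y hy hyd => by
    obtain ⟨w, rfl⟩ : y ∈ Set.range i := by
      rw [hr]; exact specializes_iff_mem_closure.1 (hirr y (hCzero y (hGs hy)))
    have hwd : topologicalKrullDim (closure {w} : Set J.subscheme) = ((1 : ℕ) : WithBot ℕ∞) :=
      (dim_closure_of_immersion i w).trans hyd
    obtain ⟨c, hc, h⟩ := exists_transfer_point K i rfl hwd
    have := h (Nakai.pullRing π u) (by simpa using Nakai.pullRing_mem π (d := 1) (z := u) (by simpa using hu))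
    rw [show pairing K (compMod w) (Nakai.pullRing i (Nakai.pullRing π u)) = 0 from hIH w hwd] at this
    exact (mul_eq_zero.1 this.symm).resolve_left (by exact_mod_cast hc.ne')
  have hu1 : Nakai.pullRing π u ∈ Nakai.Aug (Curv2.bc k X K) ^ 1 := Nakai.pullRing_mem π (by simpa using hu)
  refine le_antisymm ?_ (Nakai.pairing_nonneg K hu1 hGc hGd fun y hy hyd => (hpt y hy hyd).ge)
  have h := Nakai.pairing_nonneg K ((Nakai.Aug _ ^ 1).neg_mem hu1) hGc hGd fun y hy hyd => by
    rw [map_neg, hpt y hy hyd, neg_zero]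
  rwa [map_neg, neg_nonneg] at h

theorem indexOK : ∀ e : ℕ, IndexOK.{u} e
  | 0 => indexOK_zero
  | e + 1 => by
    intro k _ X _ _ _ hdim H hH u hu horth hsq ξ hξ
    haveI := EulerIneqLib.isNoetherian_proper (X := X) k
    let η : X := genericPoint X
    have hηd : topologicalKrullDim (closure {η} : Set X) = ((e + 1 + 2 : ℕ) : WithBot ℕ∞) := by
      rw [(genericPoint_spec X).def, (Homeomorph.Set.univ X).isHomeomorph.topologicalKrullDim_eq, hdim]
    let J := Scheme.IdealSheafData.vanishingIdeal (⟨closure {η}, isClosed_closure⟩ : Closeds X)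
    let i : J.subscheme ⟶ X := J.subschemeι
    have hr : Set.range i = closure {η} := by
      rw [Scheme.IdealSheafData.range_subschemeι, Scheme.IdealSheafData.coe_support_vanishingIdeal]; rfl
    haveI : IsIntegral J.subscheme := CurveLib.isIntegral_vanishingIdeal isClosed_closure isIrreducible_singleton.closure
    letI : J.subscheme.Over (Spec (CommRingCat.of k)) := ⟨i ≫ (X ↘ Spec (CommRingCat.of k))⟩
    haveI : IsProper (J.subscheme ↘ Spec (CommRingCat.of k)) :=
      inferInstanceAs (IsProper (i ≫ (X ↘ Spec (CommRingCat.of k))))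
    have hdJ : topologicalKrullDim J.subscheme = ((e + 1 + 2 : ℕ) : WithBot ℕ∞) := by
      rw [i.isEmbedding.toHomeomorph.isHomeomorph.topologicalKrullDim_eq, hr, hηd]
    obtain ⟨c, hc, hdown⟩ := Nakai.exists_pairing_eq_mul k hηd (DevLib.isCoh_structureModule X)
      (by rw [(genericPoint_spec X).def]; exact Set.subset_univ _) (show ¬ Subsingleton _ from
        haveI : Nontrivial ((Coh.structureModule X).presheaf.stalk η) := (ParaFLib.bijective_oneG η).1.nontrivial
        not_subsingleton _)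
    have hpush : ∀ z, pairing k (compMod η) z = pairing k (Coh.structureModule J.subscheme) (Nakai.pullRing i z) :=
      fun z => Nakai.pairing_push k i rfl (DevLib.isCoh_structureModule _) z
    have hz : ∀ z ∈ Nakai.Aug X ^ (e + 1 + 2), pairing k (Coh.structureModule X) z =
        (c : ℤ) * pairing k (Coh.structureModule J.subscheme) (Nakai.pullRing i z) := fun z hz => by
      rw [hdown z hz, hpush]
    have hpowm : ∀ n, Nakai.cl hH.1 ^ n ∈ Nakai.Aug X ^ n := fun n => Ideal.pow_mem_pow (Nakai.cl_mem _) n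
    have hHJ : CohB1.IsAmple ((Scheme.Modules.pullback i).obj H) := isAmple_pullback i hH
    have hu' : Nakai.pullRing i u ∈ Nakai.Aug J.subscheme := by
      simpa using Nakai.pullRing_mem i (d := 1) (z := u) (by simpa using hu)
    obtain ⟨w, rfl⟩ : ξ ∈ Set.range i := by rw [hr, (genericPoint_spec X).def]; trivial
    have hwd : topologicalKrullDim (closure {w} : Set J.subscheme) = ((1 : ℕ) : WithBot ℕ∞) :=
      (dim_closure_of_immersion i w).trans hξ
    obtain ⟨b, hb, htr⟩ := exists_transfer_point k i rfl hwd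
    have h0 : pairing k (compMod w) (Nakai.pullRing i u) = 0 := by
      refine index_step (indexOK e) k J.subscheme hdJ hHJ hu' ?_ ?_ hwd
      · rw [← Nakai.pullRing_cl i hH.1, ← map_pow, ← map_mul]
        have h := hz (u * Nakai.cl hH.1 ^ (e + 1 + 1)) (by
          rw [show e + 1 + 2 = 1 + (e + 1 + 1) by omega, pow_add _ 1, pow_one]
          exact Ideal.mul_mem_mul hu (hpowm _))
        rw [horth] at h
        exact (mul_eq_zero.1 h.symm).resolve_left (by exact_mod_cast hc.ne')
      · rw [← Nakai.pullRing_cl i hH.1, ← map_pow, ← map_mul, ← map_mul]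
        have h := hz (u * u * Nakai.cl hH.1 ^ (e + 1)) (by
          rw [show e + 1 + 2 = 1 + 1 + (e + 1) by omega, pow_add _ (1 + 1), pow_add _ 1, pow_one]
          exact Ideal.mul_mem_mul (Ideal.mul_mem_mul hu hu) (hpowm _))
        exact nonneg_of_mul_nonneg_right (le_of_le_of_eq hsq h) (by exact_mod_cast hc)
    have := htr u (by simpa using hu)
    rw [h0] at this
    exact (mul_eq_zero.1 this.symm).resolve_left (by exact_mod_cast hb.ne')

end Groth.Agent.GenCut

end
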