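import Groth.Agent.GenCutLib.NumBC
import Groth.Agent.CycLib.NefPull

/-!
# Nefness and extensions of the base field
-/

set_option autoImplicit false
set_option backward.isDefEq.respectTransparency false
set_option backward.isDefEq.respectTransparency.types false
set_option linter.style.haveILetI false

universe u

open CategoryTheory CategoryTheory.Limits AlgebraicGeometry TopologicalSpace Opposite
open Groth.Agent.AmpleLib
open Groth.Agent.IntLib (PicRing pairing compMod)

noncomputable section

namespace Groth.Agent.GenCut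

variable (k : Type u) [Field k] {X : Scheme.{u}} [X.Over (Spec (CommRingCat.of k))]
  [IsProper (X ↘ Spec (CommRingCat.of k))]

/-- The curve test for nefness, read from the pairing. -/
theorem nefQuot_of_nefP {L : X.Modules} {hL : PicF.IsInvertible L} (h : Nakai.NefP k hL) (C : X.IdealSheafData)
    (hd : topologicalKrullDim (C.support : Set X) = 1) :
    0 ≤ Curv2.euler k X (CohB1.tensorMod (ClSub.quotMod C) L) - Curv2.euler k X (ClSub.quotMod C) := by
  haveI := EulerIneqLib.isNoetherian_proper (X := X) k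
  rw [← Nakai.pairing_cl k _ hL]
  exact h.nonneg (F := ClSub.quotMod C) k (IntLib.isCoh_quotMod C) (Nakai.dim_supp_quotMod (d := 1) (hd.trans Nat.cast_one.symm))

/-- A line bundle all of whose twists by a fixed one are ample is nef. -/
theorem nefP_of_ample_twists {L H : X.Modules} (hL : PicF.IsInvertible L) (hH : PicF.IsInvertible H)
    (h : ∀ m : ℕ, CohB1.IsAmple (CohB1.tensorMod (CohB1.tensorPow L m) H)) : Nakai.NefP k hL := by
  refine Nakai.nefP_of_curveDeg k hL fun Y i _ hY hd => ?_
  have hd' : topologicalKrullDim Y = ((1 : ℕ) : WithBot ℕ∞) := hd.trans Nat.cast_one.symm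
  set a := Pic13.curveDeg k (i ≫ (X ↘ Spec (CommRingCat.of k))) ((Scheme.Modules.pullback i).obj L)
  set b := Pic13.curveDeg k (i ≫ (X ↘ Spec (CommRingCat.of k))) ((Scheme.Modules.pullback i).obj H)
  have hp := NumPic.curveDeg_nonneg_of_ample k (h (b.natAbs + 1)) i hd
  rw [NumBdd.curveDeg_tensor k (isInvertible_tensorPow hL _) hH i hd', NumPic.curveDeg_pow k hL i hY hd] at hp
  change 0 ≤ ((b.natAbs + 1 : ℕ) : ℤ) * a + b at hp
  refine not_lt.1 fun hlt => ?_
  have : ((b.natAbs + 1 : ℕ) : ℤ) * a ≤ ((b.natAbs + 1 : ℕ) : ℤ) * (-1) :=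
    mul_le_mul_of_nonneg_left (by omega) (by positivity)
  have := Int.le_natAbs (a := b)
  have : ((b.natAbs + 1 : ℕ) : ℤ) = (b.natAbs : ℤ) + 1 := Nat.cast_succ _
  linarith

variable (E : Type u) [Field E] [Algebra k E]

/-- Nefness descends along extensions of the field. -/
theorem nefP_of_bc {L : X.Modules} (hL : PicF.IsInvertible L)
    (h : Nakai.NefP E (X := Curv2.bc k X E) (isInvertible_pullback (Curv2.bcFst k X E) hL)) : Nakai.NefP k hL := by
  intro ξ hξ
  haveI := EulerIneqLib.isNoetherian_proper (X := X) k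
  have hP := IntLib.isPiece_compMod ξ
  haveI := hP.coh.1
  rw [← pairing_bc k E hP.coh, Nakai.pullRing_cl]
  refine h.nonneg E (PullbackMod.isCoh_pullback _ _ hP.coh) (lt_of_le_of_lt (Topology.IsEmbedding.inclusion
      ((ClSubLib.support_pullback_subset (Curv2.bcFst k X E) _).trans (Set.preimage_mono fun y hy =>
        specializes_iff_mem_closure.1 (hP.supp y hy)))).isInducing.topologicalKrullDim_le ?_)
  rw [dim_preimage_closure k E, hξ]
  exact_mod_cast Nat.one_lt_two

/-- Nefness is insensitive to extensions of the field. -/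
theorem nef_bc_iff {L : X.Modules} (hL : PicF.IsInvertible L) :
    (∀ C : X.IdealSheafData, IsIntegral C.subscheme → topologicalKrullDim (C.support : Set X) = 1 →
      0 ≤ Curv2.euler k X (CohB1.tensorMod (ClSub.quotMod C) L) - Curv2.euler k X (ClSub.quotMod C)) ↔
    (∀ C : (Curv2.bc k X E).IdealSheafData, IsIntegral C.subscheme → topologicalKrullDim (C.support : Set ↥(Curv2.bc k X E)) = 1 →
      0 ≤ Curv2.euler E (Curv2.bc k X E) (CohB1.tensorMod (ClSub.quotMod C) ((Scheme.Modules.pullback (Curv2.bcFst k X E)).obj L)) -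
        Curv2.euler E (Curv2.bc k X E) (ClSub.quotMod C)) := by
  refine ⟨fun hn => ?_, fun h C _ hd => nefQuot_of_nefP k (nefP_of_bc k E hL (Nakai.nefP_of_quotMod E _ h)) C hd⟩
  haveI := EulerIneqLib.isNoetherian_proper (X := X) k
  obtain ⟨n, X', π, j, hj, hjf, hπp, hπs, -⟩ := Groth.Agent.S0025.result (X ↘ Spec (CommRingCat.of k))
  haveI := hπp
  haveI := hπs
  letI : X'.Over (Spec (CommRingCat.of k)) := ⟨π ≫ (X ↘ Spec (CommRingCat.of k))⟩
  haveI : IsProper (X' ↘ Spec (CommRingCat.of k)) := inferInstanceAs (IsProper (π ≫ (X ↘ Spec (CommRingCat.of k))))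
  haveI : IsProper (j ≫ CohB1.ProjSpaceOver.toBase n (Spec (CommRingCat.of k))) := hjf ▸ inferInstance
  haveI : IsProper j := IsProper.of_comp j (CohB1.ProjSpaceOver.toBase n (Spec (CommRingCat.of k)))
  haveI : IsClosedImmersion j := .of_isPreimmersion j j.isClosedMap.isClosed_range
  have hA := isAmple_pullback j (AmpleEmb.isAmple_twistOver (Y := Spec (CommRingCat.of k)) n)
  have hLπ : PicF.IsInvertible ((Scheme.Modules.pullback π).obj L) := isInvertible_pullback π hL
  have hnπ : Nakai.NefP k hLπ := Nakai.nefP_of_quotMod k hLπ ((CycLib.nef_pullback_iff k π rfl hL).1 hn)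
  let p' := Curv2.bcFst k X' E
  haveI : IsAffineHom p' := MorphismProperty.pullback_fst (P := @IsAffineHom) _ _ inferInstance
  have h1 : Nakai.NefP E (X := Curv2.bc k X' E) (isInvertible_pullback p' hLπ) :=
    nefP_of_ample_twists E _ (isInvertible_pullback p' hA.1) fun m =>
      isAmple_of_iso (pullTensor _ _ _ ≪≫ tIso (pullPow p' _ m) (Iso.refl _)) (isAmple_pullback p'
        (Nakai.isAmple_of_cl k hLπ hA hnπ (isInvertible_tensor (isInvertible_tensorPow hLπ m) hA.1)
          (a := m) (b := 1) one_pos (Nakai.cl_twist_sub_mem hLπ hA.1 m _)))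
  let g : Spec (CommRingCat.of E) ⟶ Spec (CommRingCat.of k) := Spec.map (CommRingCat.ofHom (algebraMap k E))
  let μ : Curv2.bc k X' E ⟶ Curv2.bc k X E :=
    pullback.map (X' ↘ Spec (CommRingCat.of k)) g (X ↘ Spec (CommRingCat.of k)) g π (𝟙 _) (𝟙 _)
      (by rw [Category.comp_id]; rfl) (by rw [Category.comp_id, Category.id_comp])
  haveI : Surjective μ := ⟨Set.range_eq_univ.1 (by
    rw [Scheme.Pullback.range_map]
    simp [π.surjective.range_eq])⟩
  have hμ : μ ≫ Curv2.bcFst k X E = p' ≫ π := pullback.lift_fst _ _ _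
  have hμs : μ ≫ (Curv2.bc k X E ↘ Spec (CommRingCat.of E)) = Curv2.bc k X' E ↘ Spec (CommRingCat.of E) :=
    (pullback.lift_snd _ _ _).trans (Category.comp_id _)
  have hLE : PicF.IsInvertible ((Scheme.Modules.pullback (Curv2.bcFst k X E)).obj L) := isInvertible_pullback _ hL
  refine (CycLib.nef_pullback_iff E μ hμs hLE).2 fun C _ hd => nefQuot_of_nefP E
    (hL := isInvertible_pullback μ hLE) ?_ C hd
  have he := Nakai.cl_congr (isInvertible_pullback p' hLπ) (isInvertible_pullback μ hLE)
    ((Scheme.Modules.pullbackComp p' π).app L ≪≫ (Scheme.Modules.pullbackCongr hμ.symm).app L ≪≫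
      ((Scheme.Modules.pullbackComp μ (Curv2.bcFst k X E)).app L).symm)
  intro ξ hξ
  rw [← he]
  exact h1 ξ hξ

end Groth.Agent.GenCut

end
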