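import Groth.Agent.GenCutLib.Num
import Groth.Agent.NumPicLib.Main
import Groth.Agent.S4305
import Groth.Agent.AmpleEmb.Immersion
import Groth.Agent.GenBCLib.TwistFP
import Groth.Agent.GenBCLib.Betti
import Groth.Agent.SepFamLib.Hom
import Groth.Agent.DerSchH7.RelFlat

/-!
# The locus of fibres on which an invertible module is τ-equivalent to zero
-/

set_option autoImplicit false
set_option backward.isDefEq.respectTransparency false
set_option backward.isDefEq.respectTransparency.types false
set_option linter.style.haveILetI false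

universe u

open CategoryTheory CategoryTheory.Limits AlgebraicGeometry TopologicalSpace Opposite
open Groth.Agent.AmpleLib

noncomputable section

namespace Groth.Agent.GenCut

variable {X S : Scheme.{u}}

/-- Relative `O(1)` is ample on the fibres over field-valued points. -/
theorem isAmple_point (n : ℕ) (i : X ⟶ CohB1.ProjSpaceOver n S) [IsClosedImmersion i]
    [IsProper (i ≫ CohB1.ProjSpaceOver.toBase n S)] (Ω : Type u) [Field Ω] (σ : Spec (CommRingCat.of Ω) ⟶ S) :
    CohB1.IsAmple ((Scheme.Modules.pullback (pullback.fst (i ≫ CohB1.ProjSpaceOver.toBase n S) σ)).obj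
      ((Scheme.Modules.pullback i).obj (Twist.twistOver n S 1))) := by
  let f := i ≫ CohB1.ProjSpaceOver.toBase n S
  let p₁ : CohB1.ProjSpaceOver n (Spec (CommRingCat.of Ω)) ⟶ CohB1.ProjSpace n (ULift.{u} ℤ) := pullback.fst _ _
  let q₁ : CohB1.ProjSpaceOver n S ⟶ CohB1.ProjSpace n (ULift.{u} ℤ) := pullback.fst _ _
  let fst := pullback.fst f σ
  let j : pullback f σ ⟶ CohB1.ProjSpaceOver n (Spec (CommRingCat.of Ω)) :=
    pullback.lift (fst ≫ i ≫ q₁) (pullback.snd f σ) (specULiftZIsTerminal.hom_ext _ _)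
  have hj₁ : j ≫ p₁ = fst ≫ i ≫ q₁ := pullback.lift_fst _ _ _
  have hj₂ : j ≫ CohB1.ProjSpaceOver.toBase n (Spec (CommRingCat.of Ω)) = pullback.snd f σ := pullback.lift_snd _ _ _
  haveI : IsSeparated (CohB1.ProjSpaceOver.toBase n (Spec (CommRingCat.of Ω))) :=
    MorphismProperty.pullback_snd (P := @IsSeparated) _ _ inferInstance
  haveI : IsProper (j ≫ CohB1.ProjSpaceOver.toBase n (Spec (CommRingCat.of Ω))) := hj₂ ▸ inferInstance
  haveI : IsProper j := IsProper.of_comp j (CohB1.ProjSpaceOver.toBase n (Spec (CommRingCat.of Ω)))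
  haveI : Mono j := ⟨fun {Z} u v huv => by
    have hs : u ≫ pullback.snd f σ = v ≫ pullback.snd f σ := by rw [← hj₂, reassoc_of% huv]
    have hi : u ≫ fst ≫ i = v ≫ fst ≫ i := by
      refine pullback.hom_ext ?_ ?_
      · have h := congrArg (fun w => w ≫ p₁) huv
        simp only [Category.assoc, hj₁] at h
        simpa only [Category.assoc] using h
      · show (u ≫ fst ≫ i) ≫ CohB1.ProjSpaceOver.toBase n S = (v ≫ fst ≫ i) ≫ CohB1.ProjSpaceOver.toBase n S
        rw [Category.assoc, Category.assoc, Category.assoc, Category.assoc,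
          show fst ≫ i ≫ CohB1.ProjSpaceOver.toBase n S = pullback.snd f σ ≫ σ from pullback.condition,
          reassoc_of% hs]
    refine pullback.hom_ext ((cancel_mono i).1 ?_) hs
    rw [Category.assoc, Category.assoc]; exact hi⟩
  haveI : IsClosedImmersion j := (IsClosedImmersion.iff_isProper_and_mono j).2 ⟨inferInstance, inferInstance⟩
  have h := isAmple_pullback j (AmpleEmb.isAmple_twistOver (Y := Spec (CommRingCat.of Ω)) n)
  exact isAmple_of_iso ((Scheme.Modules.pullbackComp j p₁).app _ ≪≫
    (Scheme.Modules.pullbackCongr (hj₁.trans (Category.assoc fst i q₁).symm)).app _ ≪≫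
    ((Scheme.Modules.pullbackComp (fst ≫ i) q₁).app _).symm ≪≫
    ((Scheme.Modules.pullbackComp fst i).app _).symm) h

/-- The locus where an invertible module is τ-equivalent to zero is closed. -/
theorem isClosed_tau [IsNoetherian S] (n : ℕ) (i : X ⟶ CohB1.ProjSpaceOver n S) [IsClosedImmersion i]
    [Flat (i ≫ CohB1.ProjSpaceOver.toBase n S)]
    (hint : ∀ (Ω : Type u) [Field Ω] [IsAlgClosed Ω] (σ : Spec (CommRingCat.of Ω) ⟶ S),
      IsIntegral (pullback (i ≫ CohB1.ProjSpaceOver.toBase n S) σ))
    {L : X.Modules} (hL : PicF.IsInvertible L) :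
    IsClosed {s : S | Pic13.IsTauTrivialAt (i ≫ CohB1.ProjSpaceOver.toBase n S) L s} := by
  haveI : IsProper (CohB1.ProjSpaceOver.toBase n S) := by
    haveI : IsProper (CohB1.ProjSpace.toSpec n (ULift.{u} ℤ)) := CompleteCurve.isProper_toSpec n _
    exact MorphismProperty.pullback_snd (P := @IsProper) _ _ inferInstance
  let f := i ≫ CohB1.ProjSpaceOver.toBase n S
  haveI : IsLocallyNoetherian X := LocallyOfFiniteType.isLocallyNoetherian f
  haveI : LocallyOfFinitePresentation f := by
    rw [HasRingHomProperty.iff_appLE (P := @LocallyOfFinitePresentation)]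
    intro W E e
    haveI : IsNoetherianRing ↥Γ(S, W) := IsLocallyNoetherian.component_noetherian W
    exact RingHom.FinitePresentation.of_finiteType.1
      (HasRingHomProperty.appLE (P := @LocallyOfFiniteType) f inferInstance W E e)
  let HX := (Scheme.Modules.pullback i).obj (Twist.twistOver n S 1)
  have hHX : PicF.IsInvertible HX :=
    isInvertible_pullback i (AmpleLib.isInvertible_pullback _ (AmpleEmb.isInvertible_twistOne n (ULift.{u} ℤ)))
  obtain ⟨HX', hHX', ⟨eH⟩⟩ := AmpleEmb.exists_isInverseOf hHX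
  obtain ⟨L', hL', ⟨eL⟩⟩ := AmpleEmb.exists_isInverseOf hL
  have hLs : ∀ v : Fin 2, PicF.IsInvertible (![L', HX'] v) := fun v => by fin_cases v <;> assumption
  let G : ℕ → ℕ → X.Modules := fun m j => Curv2.tensorPows (Coh.structureModule X) 2 ![L', HX'] ![m, j]
  have hG : ∀ m j, CohB1.IsFP (G m j) ∧ FlatMod.IsFlatOver f (G m j) := fun m j =>
    GenBCLib.tensorPows_fp_flat f (QCohLib.isFP_of_isCoh _ (DevLib.isCoh_structureModule X))
      ((DerSchH7.flat_iff_isFlatOver (f := f)).1 inferInstance) 2 _ hLs _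
  have hval : ∀ (Ω : Type u) [Field Ω] (σ : Spec (CommRingCat.of Ω) ⟶ S) (m j : ℕ),
      letI : (pullback f σ).Over (Spec (CommRingCat.of Ω)) := ⟨pullback.snd f σ⟩
      Curv2.euler Ω (pullback f σ) (CohB1.tensorMod (CohB1.tensorPow ((Scheme.Modules.pullback (pullback.fst f σ)).obj L') m)
        (CohB1.tensorPow ((Scheme.Modules.pullback (pullback.fst f σ)).obj HX') j)) =
      PerfAux.eulerChar f (G m j) (σ (IsLocalRing.closedPoint Ω)) := fun Ω _ σ m j => by
    letI : (pullback f σ).Over (Spec (CommRingCat.of Ω)) := ⟨pullback.snd f σ⟩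
    haveI : IsProper (pullback f σ ↘ Spec (CommRingCat.of Ω)) :=
      MorphismProperty.pullback_snd (P := @IsProper) _ _ inferInstance
    haveI : Coh.IsQCoh (G m j) := FibreDepth.isQCoh_of_isFP _ (hG m j).1
    rw [← SepFamLib.euler_point (IsPullback.of_hasPullback f σ) (G m j)]
    refine (CurveLib.euler_iso (K := Ω) ?_).symm
    refine Classical.choice (IntLib.mk_eq_mk.1 ?_)
    rw [← IntLib.pullCls_mk]
    show IntLib.pullCls _ (IntLib.mk (CohB1.tensorMod (CohB1.tensorMod (Coh.structureModule X) (CohB1.tensorPow L' m))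
      (CohB1.tensorPow HX' j))) = _
    simp only [IntLib.mk_tensor, IntLib.mk_tensorPow, IntLib.mk_structureModule, one_mul, map_mul, map_pow,
      IntLib.pullCls_mk]
  let E : ℕ → ℕ → Set S := fun m j => {s | PerfAux.eulerChar f (G m j) s = PerfAux.eulerChar f (G 0 j) s}
  have hEc : ∀ m j, IsClosed (E m j) := fun m j => by
    have hlc : ∀ m, IsLocallyConstant fun s => PerfAux.eulerChar f (G m j) s := fun m => by
      haveI : Coh.IsQCoh (G m j) := FibreDepth.isQCoh_of_isFP _ (hG m j).1
      exact GenBCLib.isLocallyConstant_euler (hG m j).1 (hG m j).2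
    have h2 := (((hlc m).prodMk (hlc 0)).comp fun p : ℤ × ℤ => p.1 - p.2).isClosed_fiber 0
    convert h2 using 1
    ext s
    exact sub_eq_zero.symm
  have heq : {s : S | Pic13.IsTauTrivialAt f L s} = ⋂ m, ⋂ j, E m j := by
    ext s
    rw [Set.mem_iInter₂]
    constructor
    · intro h m j
      let Ω := AlgebraicClosure (S.residueField s)
      let σ : Spec (CommRingCat.of Ω) ⟶ S :=
        Spec.map (CommRingCat.ofHom (algebraMap (S.residueField s) Ω)) ≫ S.fromSpecResidueField s
      have hσ : Set.range σ.base = {s} := by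
        refine (Set.range_nonempty _).subset_singleton_iff.1 ?_
        rintro _ ⟨x, rfl⟩
        exact S.fromSpecResidueField_apply s _
      letI : (pullback f σ).Over (Spec (CommRingCat.of Ω)) := ⟨pullback.snd f σ⟩
      haveI : IsProper (pullback f σ ↘ Spec (CommRingCat.of Ω)) :=
        MorphismProperty.pullback_snd (P := @IsProper) _ _ inferInstance
      haveI : IsIntegral (pullback f σ) := hint Ω σ
      have hH := isAmple_point n i Ω σ
      obtain ⟨-, N, emb, -, hemb, -, -⟩ := NumBdd.exists_embedding_pow Ω hH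
      haveI := hemb
      have hN : topologicalKrullDim ↥(pullback f σ) ≤ (N : WithBot ℕ∞) :=
        (emb.isClosedEmbedding.isInducing.topologicalKrullDim_le).trans (le_of_eq (Groth.Agent.S10829.result Ω N))
      have h5 := fun m => (Groth.Agent.S4305.result Ω (pullback f σ) N hN _ _ _ _ hH (isInvertible_pullback _ hL)
        ⟨(pullTensor _ _ _).symm ≪≫ (Scheme.Modules.pullback _).mapIso eH ≪≫ pullO _⟩
        ⟨(pullTensor _ _ _).symm ≪≫ (Scheme.Modules.pullback _).mapIso eL ≪≫ pullO _⟩ (h Ω σ hσ) m j).2.2.2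
      simp only [HilbLib.eulerCharLE_eq Ω _ hN] at h5
      have hs : σ (IsLocalRing.closedPoint Ω) = s :=
        (hσ.le ⟨IsLocalRing.closedPoint Ω, rfl⟩ : σ (IsLocalRing.closedPoint Ω) ∈ ({s} : Set S))
      show PerfAux.eulerChar f (G m j) s = PerfAux.eulerChar f (G 0 j) s
      rw [← hs, ← hval Ω σ, ← hval Ω σ]
      exact (h5 m).trans (h5 0).symm
    · intro h Ω _ _ σ hσ
      letI : (pullback f σ).Over (Spec (CommRingCat.of Ω)) := ⟨pullback.snd f σ⟩
      haveI : IsProper (pullback f σ ↘ Spec (CommRingCat.of Ω)) :=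
        MorphismProperty.pullback_snd (P := @IsProper) _ _ inferInstance
      haveI : IsIntegral (pullback f σ) := hint Ω σ
      have hH := isAmple_point n i Ω σ
      obtain ⟨-, N, emb, -, hemb, -, -⟩ := NumBdd.exists_embedding_pow Ω hH
      haveI := hemb
      have hN : topologicalKrullDim ↥(pullback f σ) ≤ (N : WithBot ℕ∞) :=
        (emb.isClosedEmbedding.isInducing.topologicalKrullDim_le).trans (le_of_eq (Groth.Agent.S10829.result Ω N))
      have hs : σ (IsLocalRing.closedPoint Ω) = s :=
        (hσ.le ⟨IsLocalRing.closedPoint Ω, rfl⟩ : σ (IsLocalRing.closedPoint Ω) ∈ ({s} : Set S))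
      refine NumPic.isTauEquivZero_of_numTriv Ω hH (isInvertible_pullback _ hL)
        (numTriv_of_euler Ω hN hH (isInvertible_pullback _ hHX') (isInvertible_pullback _ hL) (isInvertible_pullback _ hL')
          ((pullTensor _ _ _).symm ≪≫ (Scheme.Modules.pullback _).mapIso eH ≪≫ pullO _)
          ((pullTensor _ _ _).symm ≪≫ (Scheme.Modules.pullback _).mapIso eL ≪≫ pullO _) fun m j => ?_)
      rw [hval Ω σ m j, hs, h m j, ← hs, ← hval Ω σ 0 j]
      exact CurveLib.euler_iso (K := Ω) (unitL _)
  rw [heq]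
  exact isClosed_iInter fun m => isClosed_iInter fun j => hEc m j

end Groth.Agent.GenCut

end
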