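import Groth.Agent.GenCutLib.NefBC
import Groth.Agent.GenCutLib.TauLocus
import Groth.Agent.CycLib.SpFlat
import Groth.Agent.CycLib.SetupLft
import Groth.Agent.RuledPushLib.Basic
import Groth.Agent.DCohMore.GoodMod
import Groth.Agent.TwistFlatLib.Flat
import Groth.Agent.ProperMeetLib.Main

/-!
# Specialization of nefness
-/

set_option autoImplicit false
set_option backward.isDefEq.respectTransparency false
set_option backward.isDefEq.respectTransparency.types false
set_option linter.style.haveILetI false

universe u

open CategoryTheory CategoryTheory.Limits AlgebraicGeometry TopologicalSpace Opposite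
open Groth.Agent.AmpleLib
open Groth.Agent.IntLib (PicRing pairing compMod)

noncomputable section

namespace Groth.Agent.GenCut

/-- A closed set is no bigger than the closures of its points. -/
theorem dim_le_of_forall_point {X : Scheme.{u}} {T : Set X} (hT : IsClosed T) (D : WithBot ℕ∞)
    (h : ∀ x ∈ T, topologicalKrullDim (closure {x} : Set X) ≤ D) : topologicalKrullDim T ≤ D := by
  refine ProperMeetLib.topologicalKrullDim_le_of_forall_irreducible D fun A hA => ?_
  have hA' : IsIrreducible (Subtype.val '' A) := hA.image _ continuous_subtype_val.continuousOn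
  have hg := hA'.closure.isGenericPoint_genericPoint isClosed_closure
  set z := hA'.closure.genericPoint
  have hzT : z ∈ T := by
    have h1 : closure (Subtype.val '' A) ⊆ T := hT.closure_subset_iff.2 (Subtype.coe_image_subset _ _)
    exact h1 (hg.def ▸ subset_closure rfl)
  refine ⟨Subtype.val ⁻¹' closure {z}, fun a ha => hg.def.symm ▸ subset_closure (Set.mem_image_of_mem _ ha), ?_⟩
  exact le_trans (Topology.IsInducing.topologicalKrullDim_le
    (f := fun y : ↥((Subtype.val : T → X) ⁻¹' closure {z}) => (⟨y.1.1, y.2⟩ : ↥(closure {z} : Set X)))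
    ((Topology.IsInducing.subtypeVal.comp Topology.IsInducing.subtypeVal).codRestrict fun y => y.2)) (h z hzT)

/-- The difference of Euler characteristics of a twist is constant along the fibres of a flat module. -/
theorem euler_diff_fibres {X S : Scheme.{u}} [IsNoetherian S] [PreconnectedSpace ↥S] (p : X ⟶ S) [IsProper p]
    {F : X.Modules} (hF : Coh.IsCoh F) (hfl : FlatMod.IsFlatOver p F) {L : X.Modules} (hL : PicF.IsInvertible L)
    (a b : S) :
    (letI instA : (p.fiber a).Over (Spec (CommRingCat.of (S.residueField a))) := ⟨p.fiberToSpecResidueField a⟩;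
      Curv2.euler (S.residueField a) (p.fiber a) (CohB1.tensorMod ((Scheme.Modules.pullback (p.fiberι a)).obj F)
        ((Scheme.Modules.pullback (p.fiberι a)).obj L)) -
      Curv2.euler (S.residueField a) (p.fiber a) ((Scheme.Modules.pullback (p.fiberι a)).obj F)) =
    (letI instB : (p.fiber b).Over (Spec (CommRingCat.of (S.residueField b))) := ⟨p.fiberToSpecResidueField b⟩;
      Curv2.euler (S.residueField b) (p.fiber b) (CohB1.tensorMod ((Scheme.Modules.pullback (p.fiberι b)).obj F)
        ((Scheme.Modules.pullback (p.fiberι b)).obj L)) -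
      Curv2.euler (S.residueField b) (p.fiber b) ((Scheme.Modules.pullback (p.fiberι b)).obj F)) := by
  haveI : IsLocallyNoetherian X := LocallyOfFiniteType.isLocallyNoetherian p
  haveI : LocallyOfFinitePresentation p := by
    rw [HasRingHomProperty.iff_appLE (P := @LocallyOfFinitePresentation)]
    intro W E e
    haveI : IsNoetherianRing ↥Γ(S, W) := IsLocallyNoetherian.component_noetherian W
    exact RingHom.FinitePresentation.of_finiteType.1
      (HasRingHomProperty.appLE (P := @LocallyOfFiniteType) p inferInstance W E e)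
  have hFLc : Coh.IsCoh (CohB1.tensorMod F L) := CMRegLib.isCoh_tensor_inv hF hL
  haveI := hF.1
  haveI := hFLc.1
  haveI : Coh.IsQCoh (DCohLib.tmod F L) := hFLc.1
  have hFLfl : FlatMod.IsFlatOver p (CohB1.tensorMod F L) := TwistFlat.isFlatOver_tensor p hL hfl
  have key : ∀ {M : X.Modules}, Coh.IsCoh M → FlatMod.IsFlatOver p M → ∀ t : S,
      (letI instT : (p.fiber t).Over (Spec (CommRingCat.of (S.residueField t))) := ⟨p.fiberToSpecResidueField t⟩;
        Curv2.euler (S.residueField t) (p.fiber t) ((Scheme.Modules.pullback (p.fiberι t)).obj M)) =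
      PerfAux.eulerChar p M t := fun {M} hM hfl t => by
    haveI := hM.1
    letI : (p.fiber t).Over (Spec (CommRingCat.of (S.residueField t))) := ⟨p.fiberToSpecResidueField t⟩
    haveI : IsProper (p.fiber t ↘ Spec (CommRingCat.of (S.residueField t))) :=
      MorphismProperty.pullback_snd (P := @IsProper) _ _ inferInstance
    refine (SepFamLib.euler_point (X := p.fiber t) (IsPullback.of_hasPullback p (S.fromSpecResidueField t)) M).trans ?_
    exact congrArg (PerfAux.eulerChar p M) (S.fromSpecResidueField_apply t _)
  have hlc : ∀ {M : X.Modules}, Coh.IsCoh M → FlatMod.IsFlatOver p M →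
      PerfAux.eulerChar p M a = PerfAux.eulerChar p M b := fun {M} hM hfl => by
    haveI := hM.1
    have hlc : IsLocallyConstant fun t => PerfAux.eulerChar p M t :=
      GenBCLib.isLocallyConstant_euler (QCohLib.isFP_of_isCoh _ hM) hfl
    exact hlc.apply_eq_of_preconnectedSpace a b
  letI : (p.fiber a).Over (Spec (CommRingCat.of (S.residueField a))) := ⟨p.fiberToSpecResidueField a⟩
  letI : (p.fiber b).Over (Spec (CommRingCat.of (S.residueField b))) := ⟨p.fiberToSpecResidueField b⟩
  haveI : IsProper (p.fiber a ↘ Spec (CommRingCat.of (S.residueField a))) :=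
    MorphismProperty.pullback_snd (P := @IsProper) _ _ inferInstance
  haveI : IsProper (p.fiber b ↘ Spec (CommRingCat.of (S.residueField b))) :=
    MorphismProperty.pullback_snd (P := @IsProper) _ _ inferInstance
  rw [← CurveLib.euler_iso (K := S.residueField a) (pullTensor (p.fiberι a) F L),
    ← CurveLib.euler_iso (K := S.residueField b) (pullTensor (p.fiberι b) F L)]
  rw [key hFLc hFLfl, key hF hfl, key hFLc hFLfl, key hF hfl, hlc hFLc hFLfl, hlc hF hfl]

variable (R : Type u) [CommRing R] [IsDomain R] [IsDiscreteValuationRing R]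

theorem isRegCurve_dvr : VBLib.IsRegCurve (Spec (CommRingCat.of R)) := ⟨fun x => by
  letI : Algebra R ((Spec (CommRingCat.of R)).presheaf.stalk x) :=
    StructureSheaf.stalkAlgebra (CommRingCat.of R) x
  haveI : IsLocalization.AtPrime ((Spec (CommRingCat.of R)).presheaf.stalk x) x.asIdeal :=
    StructureSheaf.IsLocalization.to_stalk (CommRingCat.of R) x
  constructor
  intro I
  obtain ⟨a, ha⟩ := (IsPrincipalIdealRing.principal (I.comap (algebraMap R ((Spec (CommRingCat.of R)).presheaf.stalk x))))
  refine ⟨algebraMap R _ a, ?_⟩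
  refine (IsLocalization.map_comap x.asIdeal.primeCompl ((Spec (CommRingCat.of R)).presheaf.stalk x) I).symm.trans ?_
  refine (congrArg (Ideal.map (algebraMap R ((Spec (CommRingCat.of R)).presheaf.stalk x))) ha).trans ?_
  exact (Ideal.map_span _ _).trans (congrArg _ Set.image_singleton)⟩

/-- Nefness passes from the closed to the generic fibre over a discrete valuation ring. -/
theorem nef_generic {X : Scheme.{u}} (p : X ⟶ Spec (CommRingCat.of R)) [IsProper p]
    (η : ↥(Spec (CommRingCat.of R))) (hη : η = genericPoint ↥(Spec (CommRingCat.of R)))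
    {L : X.Modules} (hL : PicF.IsInvertible L)
    (h0 :
      letI instS : (p.fiber (IsLocalRing.closedPoint R)).Over
          (Spec (CommRingCat.of ((Spec (CommRingCat.of R)).residueField (IsLocalRing.closedPoint R)))) :=
          ⟨p.fiberToSpecResidueField (IsLocalRing.closedPoint R)⟩;
      haveI instPS : IsProper (p.fiber (IsLocalRing.closedPoint R) ↘
          Spec (CommRingCat.of ((Spec (CommRingCat.of R)).residueField (IsLocalRing.closedPoint R)))) :=
          MorphismProperty.pullback_snd (P := @IsProper) _ _ inferInstance;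
      Nakai.NefP ((Spec (CommRingCat.of R)).residueField (IsLocalRing.closedPoint R))
        (X := p.fiber (IsLocalRing.closedPoint R))
        (isInvertible_pullback (p.fiberι (IsLocalRing.closedPoint R)) hL)) :
    letI instE : (p.fiber η).Over (Spec (CommRingCat.of ((Spec (CommRingCat.of R)).residueField η))) :=
      ⟨p.fiberToSpecResidueField η⟩;
    haveI instPE : IsProper (p.fiber η ↘ Spec (CommRingCat.of ((Spec (CommRingCat.of R)).residueField η))) :=
      MorphismProperty.pullback_snd (P := @IsProper) _ _ inferInstance;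
    Nakai.NefP ((Spec (CommRingCat.of R)).residueField η) (X := p.fiber η)
      (isInvertible_pullback (p.fiberι η) hL) := by
  subst hη
  letI : (p.fiber (genericPoint ↥(Spec (CommRingCat.of R)))).Over (Spec (CommRingCat.of ((Spec (CommRingCat.of R)).residueField (genericPoint ↥(Spec (CommRingCat.of R)))))) := ⟨p.fiberToSpecResidueField (genericPoint ↥(Spec (CommRingCat.of R)))⟩
  haveI : IsProper (p.fiber (genericPoint ↥(Spec (CommRingCat.of R))) ↘ Spec (CommRingCat.of ((Spec (CommRingCat.of R)).residueField (genericPoint ↥(Spec (CommRingCat.of R)))))) :=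
    MorphismProperty.pullback_snd (P := @IsProper) _ _ inferInstance
  letI : (p.fiber (IsLocalRing.closedPoint R)).Over (Spec (CommRingCat.of ((Spec (CommRingCat.of R)).residueField (IsLocalRing.closedPoint R)))) := ⟨p.fiberToSpecResidueField (IsLocalRing.closedPoint R)⟩
  haveI : IsProper (p.fiber (IsLocalRing.closedPoint R) ↘ Spec (CommRingCat.of ((Spec (CommRingCat.of R)).residueField (IsLocalRing.closedPoint R)))) :=
    MorphismProperty.pullback_snd (P := @IsProper) _ _ inferInstance
  haveI := EulerIneqLib.isNoetherian_proper (X := p.fiber (genericPoint ↥(Spec (CommRingCat.of R)))) ((Spec (CommRingCat.of R)).residueField (genericPoint ↥(Spec (CommRingCat.of R))))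
  haveI := EulerIneqLib.isNoetherian_proper (X := p.fiber (IsLocalRing.closedPoint R)) ((Spec (CommRingCat.of R)).residueField (IsLocalRing.closedPoint R))
  haveI : IsLocallyNoetherian X := LocallyOfFiniteType.isLocallyNoetherian p
  intro ξ₀ hξ₀
  let ξ := p.fiberι (genericPoint ↥(Spec (CommRingCat.of R))) ξ₀
  have hpξ : p ξ = (genericPoint ↥(Spec (CommRingCat.of R))) := CycLib.SpFlat.apply_fiberι p (genericPoint ↥(Spec (CommRingCat.of R))) ξ₀
  let F := compMod ξ
  have hP := IntLib.isPiece_compMod ξ
  haveI := hP.coh.1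
  -- flatness
  let J := Scheme.IdealSheafData.vanishingIdeal (⟨closure ({ξ} : Set X), isClosed_closure⟩ : Closeds X)
  haveI : IsIntegral J.subscheme := CurveLib.isIntegral_vanishingIdeal (X := X) isClosed_closure
    isIrreducible_singleton.closure
  haveI : IsDominant (J.subschemeι ≫ p) := ⟨by
    obtain ⟨z, hz⟩ : ξ ∈ Set.range J.subschemeι := by
      rw [Scheme.IdealSheafData.range_subschemeι, Scheme.IdealSheafData.coe_support_vanishingIdeal]
      exact subset_closure rfl
    refine Dense.mono (Set.singleton_subset_iff.2 ⟨z, ?_⟩) (dense_iff_closure_eq.2 (genericPoint_spec ↥(Spec (CommRingCat.of R))))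
    show p (J.subschemeι z) = (genericPoint ↥(Spec (CommRingCat.of R)))
    rw [hz, hpξ]⟩
  haveI := isRegCurve_dvr R
  haveI : Flat (J.subschemeι ≫ p) := RuledPushLib.flat_of_dominant _
  haveI : IsLocallyNoetherian J.subscheme := LocallyOfFiniteType.isLocallyNoetherian J.subschemeι
  have hFfl : FlatMod.IsFlatOver p F := by
    haveI : Coh.IsQCoh (Coh.structureModule J.subscheme) := (DevLib.isCoh_structureModule J.subscheme).1
    exact DCohMore.isFlatOver_pushforward_affine J.subschemeι p _
      (BCLib.isFlatOver_structureModule (J.subschemeι ≫ p))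
  let G := (Scheme.Modules.pullback (p.fiberι (genericPoint ↥(Spec (CommRingCat.of R))))).obj F
  let G₀ := (Scheme.Modules.pullback (p.fiberι (IsLocalRing.closedPoint R))).obj F
  have hG : Coh.IsCoh G := PullbackMod.isCoh_pullback _ _ hP.coh
  have hG₀ : Coh.IsCoh G₀ := PullbackMod.isCoh_pullback _ _ hP.coh
  have hLη : PicF.IsInvertible ((Scheme.Modules.pullback (p.fiberι (genericPoint ↥(Spec (CommRingCat.of R))))).obj L) := isInvertible_pullback _ hL
  have hLs : PicF.IsInvertible ((Scheme.Modules.pullback (p.fiberι (IsLocalRing.closedPoint R))).obj L) := isInvertible_pullback _ hL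
  -- the support downstairs is at most a curve
  have hd₀ : topologicalKrullDim (CohB1.support G₀) < ((1 + 1 : ℕ) : WithBot ℕ∞) := by
    obtain ⟨δ, hδ⟩ := CycLib.exists_deltaCompat p (CycLib.dvrDelta R)
    obtain ⟨δη, hδη⟩ := CycLib.exists_delta ((Spec (CommRingCat.of R)).residueField (genericPoint ↥(Spec (CommRingCat.of R)))) (p.fiber (genericPoint ↥(Spec (CommRingCat.of R))))
    obtain ⟨δs, hδs⟩ := CycLib.exists_delta ((Spec (CommRingCat.of R)).residueField (IsLocalRing.closedPoint R)) (p.fiber (IsLocalRing.closedPoint R))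
    have hset := CycLib.isSetup_of_lft p (CycLib.isSetup_dvr R) hδ
    have hξ2 : δ ξ = 2 := by
      rw [CycLib.delta_fibre p hδ (genericPoint ↥(Spec (CommRingCat.of R))) hδη ξ₀, CycLib.dvrDelta_generic,
        CycLib.delta_eq_of_dim ((Spec (CommRingCat.of R)).residueField (genericPoint ↥(Spec (CommRingCat.of R)))) hδη ξ₀ hξ₀]
      rfl
    refine lt_of_le_of_lt (dim_le_of_forall_point (DevLib.isClosed_support hG₀) ((1 : ℕ) : WithBot ℕ∞) fun z hz => ?_)
      (by exact_mod_cast Nat.lt_succ_self 1)
    have hsp : ξ ⤳ p.fiberι (IsLocalRing.closedPoint R) z := hP.supp _ (ClSubLib.support_pullback_subset (p.fiberι (IsLocalRing.closedPoint R)) F hz)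
    have hne : ξ ≠ p.fiberι (IsLocalRing.closedPoint R) z := fun h => CycLib.dvr_generic_ne R (by
      rw [← CycLib.SpFlat.apply_fiberι p (IsLocalRing.closedPoint R) z, ← h, hpξ])
    have hlt := (hset.2.2 ξ _ hsp hne).1
    rw [hξ2, CycLib.delta_fibre p hδ (IsLocalRing.closedPoint R) hδs z, CycLib.dvrDelta_closed, add_zero] at hlt
    obtain ⟨t, ht, hdt⟩ := CycLib.delta_dim ((Spec (CommRingCat.of R)).residueField (IsLocalRing.closedPoint R)) δs hδs z
    rw [hdt]
    exact_mod_cast (show t ≤ 1 by omega)
  have hkey : 0 ≤ pairing ((Spec (CommRingCat.of R)).residueField (genericPoint ↥(Spec (CommRingCat.of R)))) G (Nakai.cl hLη) := by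
    have h1 := h0.nonneg ((Spec (CommRingCat.of R)).residueField (IsLocalRing.closedPoint R)) hG₀ hd₀
    rw [Nakai.pairing_cl] at h1 ⊢
    rw [euler_diff_fibres p hP.coh hFfl hL (genericPoint ↥(Spec (CommRingCat.of R))) (IsLocalRing.closedPoint R)]
    exact h1
  -- multiplicity
  have hsub : CohB1.support G ⊆ closure {ξ₀} := fun y hy => by
    have h1 : p.fiberι (genericPoint ↥(Spec (CommRingCat.of R))) ξ₀ ⤳ p.fiberι (genericPoint ↥(Spec (CommRingCat.of R))) y := hP.supp _ (ClSubLib.support_pullback_subset (p.fiberι (genericPoint ↥(Spec (CommRingCat.of R)))) F hy)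
    exact specializes_iff_mem_closure.1 ((p.fiberι (genericPoint ↥(Spec (CommRingCat.of R)))).isEmbedding.isInducing.specializes_iff.1 h1)
  have hmem : ξ₀ ∈ CohB1.support G := fun hsub' => by
    have h1 := CycLib.SpFlat.length_generic p F ξ₀
    haveI : Subsingleton (G.presheaf.stalk ξ₀) := hsub'
    rw [Module.length_eq_zero] at h1
    haveI := hP.simple; haveI := Module.length_eq_zero_iff.1 h1.symm; haveI := IsSimpleModule.nontrivial (X.presheaf.stalk ξ) (F.presheaf.stalk ξ); exact false_of_nontrivial_of_subsingleton (F.presheaf.stalk ξ)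
  obtain ⟨a, ha, hza⟩ := Nakai.exists_pairing_eq_mul ((Spec (CommRingCat.of R)).residueField (genericPoint ↥(Spec (CommRingCat.of R)))) (d := 1) hξ₀ hG hsub hmem
  rw [hza _ (by rw [pow_one]; exact Nakai.cl_mem hLη)] at hkey
  exact nonneg_of_mul_nonneg_right hkey (by exact_mod_cast ha)

end Groth.Agent.GenCut

end
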