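import Groth.Agent.GenCutLib.Hodge
import Groth.Agent.NakaiLib.Apps
import Groth.Agent.NumBddLib.Num

/-!
# Numerical triviality from intersection numbers with an ample class
-/

set_option autoImplicit false
set_option backward.isDefEq.respectTransparency false
set_option backward.isDefEq.respectTransparency.types false
set_option linter.style.haveILetI false

universe u

open CategoryTheory CategoryTheory.Limits AlgebraicGeometry TopologicalSpace Opposite
open Groth.Agent.AmpleLib
open Groth.Agent.IntLib (PicRing pairing compMod dif inv')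

noncomputable section

namespace Groth.Agent.GenCut

variable (k : Type u) [Field k] {X : Scheme.{u}} [X.Over (Spec (CommRingCat.of k))]
  [IsProper (X ↘ Spec (CommRingCat.of k))]

/-- Numerical triviality from vanishing of a congruent class on all curves. -/
theorem numTriv_of_pairing {L : X.Modules} (hL : PicF.IsInvertible L) {u : PicRing X}
    (hu : Nakai.cl hL - u ∈ Nakai.Aug X ^ 2)
    (h : ∀ ξ : X, topologicalKrullDim (closure {ξ} : Set X) = ((1 : ℕ) : WithBot ℕ∞) → pairing k (compMod ξ) u = 0) :
    Pic13.IsNumEquivZero k X L := by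
  intro Y i _ hY hd
  haveI := EulerIneqLib.isNoetherian_proper (X := X) k
  haveI : IsLocallyNoetherian Y := LocallyOfFiniteType.isLocallyNoetherian i
  have hd' : topologicalKrullDim Y = ((1 : ℕ) : WithBot ℕ∞) := hd.trans Nat.cast_one.symm
  rw [Nakai.curveDeg_eq k hL i hd']
  refine Nakai.pairing_zero_of_comp k (d := 1) (by simpa using Nakai.cl_mem hL)
    (DevLib.isCoh_pushforward_closed i (DevLib.isCoh_structureModule Y)) (NumBdd.dim_supp_push i hd') fun ξ hξ => ?_
  rw [Nakai.pairing_congr k hu (IntLib.isPiece_compMod ξ).coh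
    (Nakai.dim_supp_le (IntLib.isPiece_compMod ξ).supp (by rw [hξ]; exact_mod_cast Nat.one_lt_two))]
  exact h ξ hξ

variable [IrreducibleSpace X]

/-- The index theorem: numerical triviality from two intersection numbers. -/
theorem numTriv_of_index {s : ℕ} (hdim : topologicalKrullDim X = ((s + 2 : ℕ) : WithBot ℕ∞))
    {H H' L L' : X.Modules} (hH : CohB1.IsAmple H) (hH' : PicF.IsInvertible H') (hL : PicF.IsInvertible L)
    (hL' : PicF.IsInvertible L') (eH : CohB1.tensorMod H H' ≅ Coh.structureModule X)
    (eL : CohB1.tensorMod L L' ≅ Coh.structureModule X)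
    (horth : pairing k (Coh.structureModule X) (dif hL' * dif hH' ^ (s + 1)) = 0)
    (hsq : 0 ≤ pairing k (Coh.structureModule X) (dif hL' * dif hL' * dif hH' ^ s)) :
    Pic13.IsNumEquivZero k X L := by
  have hdm : ∀ {M : X.Modules} (hM : PicF.IsInvertible M), dif hM ∈ Nakai.Aug X := fun hM => by
    rw [← neg_neg (dif hM), ← Nakai.cl_eq_neg_dif]
    exact Ideal.neg_mem_iff _ |>.2 (Nakai.cl_mem _)
  have hpow : ∀ n, Nakai.cl hH.1 ^ n - dif hH' ^ n ∈ Nakai.Aug X ^ (n + 1) :=
    Nakai.pow_sub_pow_mem (Nakai.cl_mem _) (hdm hH') (Nakai.cl_mul_inverse_mem hH.1 hH' eH)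
  have hO := DevLib.isCoh_structureModule X
  have hdO : topologicalKrullDim (CohB1.support (Coh.structureModule X)) < ((s + 3 : ℕ) : WithBot ℕ∞) :=
    lt_of_le_of_lt (Topology.IsInducing.subtypeVal.topologicalKrullDim_le.trans hdim.le)
      (by exact_mod_cast Nat.lt_succ_self (s + 2))
  refine numTriv_of_pairing k hL (Nakai.cl_mul_inverse_mem hL hL' eL)
    (indexOK s k X hdim H hH _ (hdm hL') ?_ ?_)
  · refine (Nakai.pairing_congr k ?_ hO hdO).trans horth
    rw [← mul_sub, show s + 3 = 1 + (s + 1 + 1) by omega, pow_add _ 1, pow_one]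
    exact Ideal.mul_mem_mul (hdm hL') (hpow _)
  · refine hsq.trans (Nakai.pairing_congr k ?_ hO hdO).ge
    rw [← mul_sub, show s + 3 = 1 + 1 + (s + 1) by omega, pow_add _ (1 + 1), pow_add _ 1, pow_one]
    exact Ideal.mul_mem_mul (Ideal.mul_mem_mul (hdm hL') (hdm hL')) (hpow _)

/-- Numerical triviality when twisting does not change Euler characteristics. -/
theorem numTriv_of_euler {d : ℕ} (hd : topologicalKrullDim X ≤ (d : WithBot ℕ∞))
    {H H' L L' : X.Modules} (hH : CohB1.IsAmple H) (hH' : PicF.IsInvertible H') (hL : PicF.IsInvertible L)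
    (hL' : PicF.IsInvertible L') (eH : CohB1.tensorMod H H' ≅ Coh.structureModule X)
    (eL : CohB1.tensorMod L L' ≅ Coh.structureModule X)
    (hv : ∀ m n : ℕ, Curv2.euler k X (CohB1.tensorMod (CohB1.tensorPow L' m) (CohB1.tensorPow H' n)) =
      Curv2.euler k X (CohB1.tensorPow H' n)) :
    Pic13.IsNumEquivZero k X L := by
  haveI := EulerIneqLib.isNoetherian_proper (X := X) k
  let a : PicRing X := MonoidAlgebra.of ℤ _ (inv' hL')
  let b : PicRing X := MonoidAlgebra.of ℤ _ (inv' hH')
  let P := pairing k (Coh.structureModule X)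
  have hP : ∀ m n : ℕ, P (a ^ m * b ^ n) = Curv2.euler k X (CohB1.tensorPow H' n) := fun m n => by
    show pairing k _ _ = _
    rw [← map_pow, ← map_pow, ← map_mul, IntLib.pairing_of, Submonoid.coe_mul, SubmonoidClass.coe_pow,
      SubmonoidClass.coe_pow, IntLib.mk_structureModule, one_mul, ← hv m n, ← IntLib.chiC_mk]
    refine congrArg (IntLib.chiC k) ?_
    rw [IntLib.mk_tensor, IntLib.mk_tensorPow, IntLib.mk_tensorPow]
    rfl
  have key : ∀ j m n : ℕ, P (a ^ m * b ^ n * (1 - a) * (1 - b) ^ j) = 0 := by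
    intro j
    induction j with
    | zero =>
      intro m n
      rw [pow_zero, mul_one, show a ^ m * b ^ n * (1 - a) = a ^ m * b ^ n - a ^ (m + 1) * b ^ n by ring,
        map_sub, hP, hP, sub_self]
    | succ j ih =>
      intro m n
      rw [show a ^ m * b ^ n * (1 - a) * (1 - b) ^ (j + 1) =
        a ^ m * b ^ n * (1 - a) * (1 - b) ^ j - a ^ m * b ^ (n + 1) * (1 - a) * (1 - b) ^ j by ring,
        map_sub, ih, ih, sub_self]
  have h1 : ∀ j, P (dif hL' * dif hH' ^ j) = 0 := fun j => by
    have := key j 0 0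
    rwa [pow_zero, pow_zero, one_mul, one_mul] at this
  have h2 : ∀ j, P (dif hL' * dif hL' * dif hH' ^ j) = 0 := fun j => by
    have ha := key j 0 0
    have hb := key j 1 0
    rw [show dif hL' * dif hL' * dif hH' ^ j =
      a ^ 0 * b ^ 0 * (1 - a) * (1 - b) ^ j - a ^ 1 * b ^ 0 * (1 - a) * (1 - b) ^ j by
        show (1 - a) * (1 - a) * (1 - b) ^ j = _; ring, map_sub, ha, hb, sub_self]
  obtain ⟨r, hr⟩ : ∃ r : ℕ, topologicalKrullDim X = (r : WithBot ℕ∞) := by
    have h0 : (0 : WithBot ℕ∞) ≤ topologicalKrullDim X := by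
      haveI : Nonempty (IrreducibleCloseds X) :=
        ⟨⟨closure {genericPoint X}, isIrreducible_singleton.closure, isClosed_closure⟩⟩
      exact Order.krullDim_nonneg
    generalize topologicalKrullDim X = D at hd h0
    induction D with
    | bot => simp at h0
    | coe D =>
      induction D with
      | top => exact absurd (top_le_iff.1 (WithBot.coe_le_coe.1 hd)) (ENat.coe_ne_top d)
      | coe D => exact ⟨D, rfl⟩
  rcases Nat.lt_or_ge r 2 with h | h
  · refine numTriv_of_pairing k hL (Nakai.cl_mul_inverse_mem hL hL' eL) fun ξ hξ => ?_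
    have hle : ((1 : ℕ) : WithBot ℕ∞) ≤ (r : WithBot ℕ∞) :=
      hξ.ge.trans (Topology.IsInducing.subtypeVal.topologicalKrullDim_le.trans hr.le)
    obtain rfl : r = 1 := by
      have : 1 ≤ r := by exact_mod_cast hle
      omega
    have hη : topologicalKrullDim (closure {genericPoint X} : Set X) = ((1 : ℕ) : WithBot ℕ∞) := by
      rw [(genericPoint_spec X).def, (Homeomorph.Set.univ X).isHomeomorph.topologicalKrullDim_eq, hr]
    obtain rfl : ξ = genericPoint X := by
      by_contra hne
      exact IntLib.dim_closure_succ (genericPoint_specializes ξ) (Ne.symm hne) hξ hη.le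
    obtain ⟨c, hc, hdown⟩ := Nakai.exists_pairing_eq_mul k hη (DevLib.isCoh_structureModule X)
      (by rw [(genericPoint_spec X).def]; exact Set.subset_univ _) (show ¬ Subsingleton _ from
        haveI : Nontrivial ((Coh.structureModule X).presheaf.stalk (genericPoint X)) :=
          (ParaFLib.bijective_oneG (genericPoint X)).1.nontrivial
        not_subsingleton _)
    have hmem : dif hL' ∈ Nakai.Aug X ^ 1 := by
      rw [pow_one, ← neg_neg (dif hL'), ← Nakai.cl_eq_neg_dif]
      exact Ideal.neg_mem_iff _ |>.2 (Nakai.cl_mem _)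
    have := hdown _ hmem
    rw [show pairing k (Coh.structureModule X) (dif hL') = 0 by simpa [P] using h1 0] at this
    exact (mul_eq_zero.1 this.symm).resolve_left (by exact_mod_cast hc.ne')
  · obtain ⟨s, rfl⟩ : ∃ s, r = s + 2 := ⟨r - 2, by omega⟩
    exact numTriv_of_index k hr hH hH' hL hL' eH eL (h1 _) (h2 _).ge

end Groth.Agent.GenCut

end
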