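import Groth.Agent.GenCutLib.Base
import Groth.Agent.NumPicLib.Main
import Groth.Agent.NumPullLib.Surj
import Groth.Agent.NakaiLib.Small
import Groth.Agent.S0025

/-!
# Numerical triviality and extensions of the base field
-/

set_option autoImplicit false
set_option backward.isDefEq.respectTransparency false
set_option backward.isDefEq.respectTransparency.types false
set_option linter.style.haveILetI false

universe u

open CategoryTheory CategoryTheory.Limits AlgebraicGeometry TopologicalSpace Opposite
open Groth.Agent.AmpleLib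
open Groth.Agent.IntLib (PicRing pairing compMod)

noncomputable section

namespace Groth.Agent.GenCut

variable (k : Type u) [Field k] {X : Scheme.{u}} [X.Over (Spec (CommRingCat.of k))]
  [IsProper (X ↘ Spec (CommRingCat.of k))] (E : Type u) [Field E] [Algebra k E]

/-- Numerical triviality descends along extensions of the field. -/
theorem numTriv_of_bc {L : X.Modules} (hL : PicF.IsInvertible L)
    (h : Pic13.IsNumEquivZero E (Curv2.bc k X E) ((Scheme.Modules.pullback (Curv2.bcFst k X E)).obj L)) :
    Pic13.IsNumEquivZero k X L := by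
  intro Y i _ hY hd
  haveI := hY
  rw [NumPullLib.curveDeg_eq_compMod k hL Y i hd]
  haveI := EulerIneqLib.isNoetherian_proper (X := X) k
  have hP := IntLib.isPiece_compMod (i (genericPoint Y))
  have hξ : topologicalKrullDim (closure ({i (genericPoint Y)} : Set X)) = ((1 : ℕ) : WithBot ℕ∞) := by
    rw [← dim_closure_of_immersion i (genericPoint Y), (genericPoint_spec Y).def,
      (Homeomorph.Set.univ Y).isHomeomorph.topologicalKrullDim_eq, hd, Nat.cast_one]
  haveI := hP.coh.1
  rw [← pairing_bc k E hP.coh, Nakai.pullRing_cl]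
  refine NumBdd.pairing_cl_eq_zero_of_dim E (isInvertible_pullback _ hL) h 2 _
    (PullbackMod.isCoh_pullback _ _ hP.coh) (lt_of_le_of_lt (Topology.IsEmbedding.inclusion
      ((ClSubLib.support_pullback_subset (Curv2.bcFst k X E) _).trans (Set.preimage_mono fun y hy =>
        specializes_iff_mem_closure.1 (hP.supp y hy)))).isInducing.topologicalKrullDim_le ?_)
  rw [dim_preimage_closure k E, hξ]
  exact_mod_cast Nat.one_lt_two

/-- Numerical triviality is preserved by extensions of the field. -/
theorem numTriv_bc {L : X.Modules} (hL : PicF.IsInvertible L) (hn : Pic13.IsNumEquivZero k X L) :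
    Pic13.IsNumEquivZero E (Curv2.bc k X E) ((Scheme.Modules.pullback (Curv2.bcFst k X E)).obj L) := by
  haveI := EulerIneqLib.isNoetherian_proper (X := X) k
  obtain ⟨n, X', π, j, hj, hjf, hπp, hπs, -⟩ := Groth.Agent.S0025.result (X ↘ Spec (CommRingCat.of k))
  haveI := hπp
  haveI := hπs
  letI : X'.Over (Spec (CommRingCat.of k)) := ⟨π ≫ (X ↘ Spec (CommRingCat.of k))⟩
  haveI : IsProper (X' ↘ Spec (CommRingCat.of k)) := inferInstanceAs (IsProper (π ≫ (X ↘ Spec (CommRingCat.of k))))
  haveI : IsProper (j ≫ CohB1.ProjSpaceOver.toBase n (Spec (CommRingCat.of k))) := hjf ▸ inferInstance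
  haveI : IsProper j := IsProper.of_comp j (CohB1.ProjSpaceOver.toBase n (Spec (CommRingCat.of k)))
  haveI : IsClosedImmersion j := .of_isPreimmersion j j.isClosedMap.isClosed_range
  have hA := isAmple_pullback j (AmpleEmb.isAmple_twistOver (Y := Spec (CommRingCat.of k)) n)
  have hLπ : PicF.IsInvertible ((Scheme.Modules.pullback π).obj L) := isInvertible_pullback π hL
  have hnπ := NumBdd.numTriv_pullback_proper k π rfl hA hL hn
  obtain ⟨L', hL', ⟨eL⟩⟩ := AmpleEmb.exists_isInverseOf hLπ
  have hn' := NumBdd.numTriv_inverse k hLπ hL' eL hnπ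
  have hamp : ∀ {M : X'.Modules} (hM : PicF.IsInvertible M), Pic13.IsNumEquivZero k X' M → ∀ m : ℕ,
      CohB1.IsAmple (CohB1.tensorMod (CohB1.tensorPow M m) ((Scheme.Modules.pullback j).obj
        (Twist.twistOver n (Spec (CommRingCat.of k)) 1))) := fun {M} hM hnM m =>
    Nakai.isAmple_of_cl k hM hA (NumBdd.nefP_of_numTriv k hM hnM) (isInvertible_tensor (isInvertible_tensorPow hM m) hA.1)
      (a := m) (b := 1) one_pos (Nakai.cl_twist_sub_mem hM hA.1 m _)
  let p' := Curv2.bcFst k X' E
  haveI : IsAffineHom p' := MorphismProperty.pullback_fst (P := @IsAffineHom) _ _ inferInstance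
  have h1 : Pic13.IsNumEquivZero E (Curv2.bc k X' E) ((Scheme.Modules.pullback p').obj ((Scheme.Modules.pullback π).obj L)) :=
    NumPic.numTriv_of_ample_twists E (isInvertible_pullback p' hA.1) (isInvertible_pullback p' hLπ)
      (isInvertible_pullback p' hL') ((pullTensor _ _ _).symm ≪≫ (Scheme.Modules.pullback p').mapIso eL ≪≫ pullO _)
      fun m => ⟨isAmple_of_iso (pullTensor _ _ _ ≪≫ tIso (pullPow p' _ m) (Iso.refl _)) (isAmple_pullback p' (hamp hLπ hnπ m)),
        isAmple_of_iso (pullTensor _ _ _ ≪≫ tIso (pullPow p' _ m) (Iso.refl _)) (isAmple_pullback p' (hamp hL' hn' m))⟩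
  let g : Spec (CommRingCat.of E) ⟶ Spec (CommRingCat.of k) := Spec.map (CommRingCat.ofHom (algebraMap k E))
  let μ : Curv2.bc k X' E ⟶ Curv2.bc k X E :=
    pullback.map (X' ↘ Spec (CommRingCat.of k)) g (X ↘ Spec (CommRingCat.of k)) g π (𝟙 _) (𝟙 _)
      (by rw [Category.comp_id]; rfl) (by rw [Category.comp_id, Category.id_comp])
  haveI : Surjective μ := ⟨Set.range_eq_univ.1 (by
    rw [Scheme.Pullback.range_map]
    simp [π.surjective.range_eq])⟩
  have hμ : μ ≫ Curv2.bcFst k X E = p' ≫ π := pullback.lift_fst _ _ _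
  have hμs : μ ≫ (Curv2.bc k X E ↘ Spec (CommRingCat.of E)) = Curv2.bc k X' E ↘ Spec (CommRingCat.of E) :=
    (pullback.lift_snd _ _ _).trans (Category.comp_id _)
  have hLE : PicF.IsInvertible ((Scheme.Modules.pullback (Curv2.bcFst k X E)).obj L) := isInvertible_pullback _ hL
  have h2 := NumBdd.numTriv_congr E (isInvertible_pullback p' hLπ) (isInvertible_pullback μ hLE)
    ((Scheme.Modules.pullbackComp p' π).app L ≪≫ (Scheme.Modules.pullbackCongr hμ.symm).app L ≪≫
      ((Scheme.Modules.pullbackComp μ (Curv2.bcFst k X E)).app L).symm) h1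
  intro Y i _ hY hd
  have hO := isInvertible_pullback μ (ParaFLib.isInvertible_structureModule (X := Curv2.bc k X E))
  refine (NumPullLib.curveDeg_eq_of_surjective E μ hμs _ _ hLE ParaFLib.isInvertible_structureModule
    (fun Z ι _ hZ hdZ => (h2 Z ι hZ hdZ).trans ((NumBdd.numTriv_congr E ParaFLib.isInvertible_structureModule hO
      (pullO μ).symm (NumBdd.numTriv_unit E)) Z ι hZ hdZ).symm) Y i hY hd).trans ?_
  exact NumBdd.numTriv_unit E Y i hY hd

end Groth.Agent.GenCut

end
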