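import Groth.Agent.GenCutLib.Num
import Groth.Agent.NumBddLib.Proper
import Groth.Agent.NumBddLib.Main
import Groth.Agent.NumBddLib.Ample

/-!
# Numerical triviality is detected on the zero scheme of a section of an ample module
-/

set_option autoImplicit false
set_option backward.isDefEq.respectTransparency false
set_option backward.isDefEq.respectTransparency.types false
set_option linter.style.haveILetI false

universe u

open CategoryTheory CategoryTheory.Limits AlgebraicGeometry TopologicalSpace Opposite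
open Groth.Agent.AmpleLib Groth.Agent.DCohLib
open Groth.Agent.IntLib (PicRing pairing compMod dif inv')

noncomputable section

namespace Groth.Agent.GenCut

/-- A numerically trivial class kills every product on every coherent module. -/
theorem pairing_cl_mul_eq_zero (k : Type u) [Field k] {X : Scheme.{u}} [X.Over (Spec (CommRingCat.of k))]
    [IsProper (X ↘ Spec (CommRingCat.of k))] {L : X.Modules} (hL : PicF.IsInvertible L)
    (hn : Pic13.IsNumEquivZero k X L) {d : ℕ} (hd : topologicalKrullDim X ≤ (d : WithBot ℕ∞)) (w : PicRing X)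
    {F : X.Modules} (hF : Coh.IsCoh F) : pairing k F (Nakai.cl hL * w) = 0 := by
  haveI := EulerIneqLib.isNoetherian_proper (X := X) k
  induction w using MonoidAlgebra.induction_on generalizing F with
  | of g =>
    obtain ⟨c, G, hG, rfl⟩ := g
    rw [mul_comm]
    show pairing k F (MonoidAlgebra.of ℤ (IntLib.Inv X) (inv' hG) * Nakai.cl hL) = 0
    rw [IntLib.pairing_of_mul k F hG, Nakai.pairing_cl, sub_eq_zero]
    exact NumBdd.euler_tensor_eq_proper k hL hn (CurveLib.isCoh_tmod hF (CurveLib.isCoh_of_isInvertible hG)) hd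
  | add a b ha hb => rw [mul_add, map_add, ha hF, hb hF, add_zero]
  | smul n a ha => rw [mul_smul_comm, map_zsmul, ha hF, smul_zero]

/-- Numerical triviality on the zero scheme of a section of an ample module, of large dimension in each component,
gives numerical triviality. -/
theorem numTriv_of_restrict (k : Type u) [Field k] (Y : Scheme.{u}) [Y.Over (Spec (CommRingCat.of k))]
    [IsProper (Y ↘ Spec (CommRingCat.of k))] {H : Y.Modules} (hH : CohB1.IsAmple H) (φ : Coh.structureModule Y ⟶ H)
    {L : Y.Modules} (hL : PicF.IsInvertible L)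
    (hdim : ∀ Z ∈ irreducibleComponents (Y : Type u),
      ∀ W ∈ irreducibleComponents ↥(Z ∩ Set.range (PicF2.zeroScheme H φ).subschemeι.base), 2 ≤ topologicalKrullDim ↥W)
    (hnum : @Pic13.IsNumEquivZero k _ (PicF2.zeroScheme H φ).subscheme
      ⟨(PicF2.zeroScheme H φ).subschemeι ≫ (Y ↘ Spec (CommRingCat.of k))⟩
      ((Scheme.Modules.pullback (PicF2.zeroScheme H φ).subschemeι).obj L)) :
    Pic13.IsNumEquivZero k Y L := by
  haveI := EulerIneqLib.isNoetherian_proper (X := Y) k
  obtain ⟨-, N, emb, -, hemb, -, -⟩ := NumBdd.exists_embedding_pow k hH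
  haveI := hemb
  have hN : topologicalKrullDim Y ≤ (N : WithBot ℕ∞) :=
    (emb.isClosedEmbedding.isInducing.topologicalKrullDim_le).trans (le_of_eq (Groth.Agent.S10829.result k N))
  let Z₀ := PicF2.zeroScheme H φ
  let j : Z₀.subscheme ⟶ Y := Z₀.subschemeι
  have hjr : Set.range j = (CohB1.genLocus H φ : Set Y)ᶜ :=
    (Z₀.range_subschemeι).trans (BoundaryConn.support_zeroScheme hH.1 φ)
  letI : Z₀.subscheme.Over (Spec (CommRingCat.of k)) := ⟨j ≫ (Y ↘ Spec (CommRingCat.of k))⟩
  haveI : IsProper (Z₀.subscheme ↘ Spec (CommRingCat.of k)) :=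
    inferInstanceAs (IsProper (j ≫ (Y ↘ Spec (CommRingCat.of k))))
  have hLZ : PicF.IsInvertible ((Scheme.Modules.pullback j).obj L) := isInvertible_pullback j hL
  -- the products with the class of `L` vanish at the points of the zero scheme
  have hpt : ∀ y ∈ Set.range j, ∀ d : ℕ, topologicalKrullDim (closure {y} : Set Y) = (d : WithBot ℕ∞) →
      ∀ w, Nakai.cl hL * w ∈ Nakai.Aug Y ^ d → pairing k (compMod y) (Nakai.cl hL * w) = 0 := by
    rintro _ ⟨x, rfl⟩ d hd w hw
    obtain ⟨a, ha, h⟩ := exists_transfer_point k j rfl ((dim_closure_of_immersion j x).trans hd)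
    haveI := EulerIneqLib.isNoetherian_proper (X := Z₀.subscheme) k
    have h1 := h _ hw
    rw [map_mul, Nakai.pullRing_cl] at h1
    rw [pairing_cl_mul_eq_zero k hLZ hnum (j.isClosedEmbedding.isInducing.topologicalKrullDim_le.trans hN) _ (IntLib.isPiece_compMod x).coh] at h1
    exact (mul_eq_zero.1 h1.symm).resolve_left (by exact_mod_cast ha.ne')
  refine numTriv_of_pairing k hL (u := Nakai.cl hL) (by rw [sub_self]; exact Submodule.zero_mem _) fun ξ hξ => ?_
  by_cases hξX : ξ ∈ Set.range j
  · have := hpt ξ hξX 1 hξ 1 (by simpa using Nakai.cl_mem hL)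
    rwa [mul_one] at this
  obtain ⟨Zc, hZc, hξZ⟩ : ∃ Z ∈ irreducibleComponents (Y : Type u), ξ ∈ Z :=
    ⟨irreducibleComponent ξ, irreducibleComponent_mem_irreducibleComponents ξ, mem_irreducibleComponent⟩
  have hZcl : IsClosed Zc := isClosed_of_mem_irreducibleComponents Zc hZc
  obtain ⟨η, hη⟩ := QuasiSober.sober hZc.1 hZcl
  obtain rfl : Zc = closure {η} := hη.symm
  let J := Scheme.IdealSheafData.vanishingIdeal (⟨closure {η}, isClosed_closure⟩ : Closeds Y)
  let i : J.subscheme ⟶ Y := J.subschemeι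
  have hr : Set.range i = closure {η} := by
    rw [Scheme.IdealSheafData.range_subschemeι, Scheme.IdealSheafData.coe_support_vanishingIdeal]; rfl
  haveI : IsIntegral J.subscheme := CurveLib.isIntegral_vanishingIdeal isClosed_closure isIrreducible_singleton.closure
  letI : J.subscheme.Over (Spec (CommRingCat.of k)) := ⟨i ≫ (Y ↘ Spec (CommRingCat.of k))⟩
  haveI : IsProper (J.subscheme ↘ Spec (CommRingCat.of k)) :=
    inferInstanceAs (IsProper (i ≫ (Y ↘ Spec (CommRingCat.of k))))
  haveI := EulerIneqLib.isNoetherian_proper (X := J.subscheme) k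
  obtain ⟨w, rfl⟩ : ξ ∈ Set.range i := by rw [hr]; exact hξZ
  have hwd : topologicalKrullDim (closure {w} : Set J.subscheme) = ((1 : ℕ) : WithBot ℕ∞) :=
    (dim_closure_of_immersion i w).trans hξ
  have hNJ : topologicalKrullDim J.subscheme ≤ (N : WithBot ℕ∞) :=
    i.isClosedEmbedding.isInducing.topologicalKrullDim_le.trans hN
  obtain ⟨r, hr1, hrd⟩ : ∃ r : ℕ, 1 ≤ r ∧ topologicalKrullDim J.subscheme = (r : WithBot ℕ∞) := by
    have h0 : ((1 : ℕ) : WithBot ℕ∞) ≤ topologicalKrullDim J.subscheme :=
      hwd.ge.trans Topology.IsInducing.subtypeVal.topologicalKrullDim_le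
    generalize topologicalKrullDim J.subscheme = D at hNJ h0
    induction D with
    | bot => simp at h0
    | coe D =>
      induction D with
      | top => exact absurd (top_le_iff.1 (WithBot.coe_le_coe.1 hNJ)) (ENat.coe_ne_top N)
      | coe D => exact ⟨D, by exact_mod_cast h0, rfl⟩
  let φ' := RelVALib.pullSec i φ
  have hHJ : CohB1.IsAmple ((Scheme.Modules.pullback i).obj H) := isAmple_pullback i hH
  have hgl : ∀ x, x ∈ CohB1.genLocus _ φ' ↔ i x ∈ CohB1.genLocus H φ := fun x => by
    rw [RelVALib.genLocus_pullSec i hH.1 φ]; rfl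
  have hwgen : w ∈ CohB1.genLocus _ φ' := (hgl w).2 (by
    by_contra hn
    exact hξX (hjr ▸ hn))
  have hφ0 : φ' ≠ 0 := fun h0 => by
    obtain ⟨ee, hee⟩ := ParaFLib.exists_stalk_gen hHJ.1 w
    obtain ⟨c, hc⟩ := ((AmpleLib.mem_genLocus_iff hHJ.1).1 hwgen).2 ee
    have hs : sec φ' = 0 := by rw [h0]; rfl
    simp only [hs, map_zero, smul_zero] at hc
    exact one_ne_zero (hee.1 (show (1 : J.subscheme.presheaf.stalk w) • ee = (0 : J.subscheme.presheaf.stalk w) • ee by
      rw [← hc, smul_zero, smul_zero]))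
  haveI := CurveLib.mono_of_ne_zero ParaFLib.isInvertible_structureModule hHJ.1 hφ0
  have hcoh : Coh.IsCoh (cokernel φ') :=
    (QCohLib.isCoh_kernel_cokernel φ' (DevLib.isCoh_structureModule _) (CurveLib.isCoh_of_isInvertible hHJ.1)).2
  have hsupp : ∀ x ∈ CohB1.support (cokernel φ'), i x ∈ Set.range j := fun x hx => by
    rw [hjr]
    exact fun hg => (mem_support_coker_iff hHJ.1 φ' x).1 hx ((hgl x).2 hg)
  have hdC : topologicalKrullDim (CohB1.support (cokernel φ')) < (r : WithBot ℕ∞) :=
    HilbLib.dim_lt_of_notMem (ξ := genericPoint J.subscheme) (DevLib.isClosed_support hcoh)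
      (fun y _ => specializes_iff_mem_closure.1 (genericPoint_specializes y))
      (fun h => (mem_support_coker_iff hHJ.1 φ' _).1 h
        ((genericPoint_specializes w).mem_open (CohB1.genLocus _ φ').isOpen hwgen))
      (lt_of_le_of_lt (Topology.IsInducing.subtypeVal.topologicalKrullDim_le.trans hrd.le)
        (by exact_mod_cast Nat.lt_succ_self r))
  have hr3 : 3 ≤ r := by
    by_contra hlt
    obtain ⟨r', rfl⟩ : ∃ r', r = r' + 1 := ⟨r - 1, by omega⟩
    have hempty : CohB1.support (cokernel φ') = ∅ := Set.eq_empty_of_forall_notMem fun x hx => by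
      let P : Set Y := closure {η} ∩ Set.range j
      have hxP : i x ∈ P := ⟨hr ▸ Set.mem_range_self x, hsupp x hx⟩
      have h2 : (2 : WithBot ℕ∞) ≤ topologicalKrullDim ↥(irreducibleComponent (⟨i x, hxP⟩ : P)) :=
        hdim _ hZc _ (irreducibleComponent_mem_irreducibleComponents _)
      have hsub : P ⊆ i '' CohB1.support (cokernel φ') := fun y hy => by
        obtain ⟨x', rfl⟩ : y ∈ Set.range i := hr ▸ hy.1
        refine ⟨x', (mem_support_coker_iff hHJ.1 φ' x').2 fun hg => ?_, rfl⟩
        exact (hjr ▸ hy.2 : i x' ∈ (CohB1.genLocus H φ : Set Y)ᶜ) ((hgl x').1 hg)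
      have h3 : topologicalKrullDim P ≤ topologicalKrullDim (CohB1.support (cokernel φ')) :=
        (Topology.IsEmbedding.inclusion hsub).isInducing.topologicalKrullDim_le.trans
          (IsHomeomorph.topologicalKrullDim_eq _ (i.isEmbedding.homeomorphImage _).isHomeomorph).ge
      have h4 : (2 : WithBot ℕ∞) < ((r' + 1 : ℕ) : WithBot ℕ∞) :=
        lt_of_le_of_lt (h2.trans (Topology.IsInducing.subtypeVal.topologicalKrullDim_le.trans h3)) hdC
      have : 2 < r' + 1 := by exact_mod_cast h4
      omega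
    have h0 : pairing k (cokernel φ') (Nakai.cl hHJ.1 ^ r') = 0 :=
      Nakai.pairing_mem_eq_zero k (n := r') (Ideal.pow_mem_pow (Nakai.cl_mem _) _) hcoh (by
        rw [hempty, topologicalKrullDim]
        haveI : IsEmpty (IrreducibleCloseds ↥(∅ : Set J.subscheme)) :=
          ⟨fun c => isEmptyElim (α := ↥(∅ : Set J.subscheme)) c.isIrreducible.nonempty.some⟩
        rw [Order.krullDim_eq_bot]
        exact WithBot.bot_lt_coe _)
    rw [Nakai.pairing_coker_section k hHJ.1 φ', ← pow_succ'] at h0
    have hpos := (Nakai.isPos_cl_pow k hHJ (r' + 1) _ (DevLib.isCoh_structureModule J.subscheme)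
      (lt_of_le_of_lt (Topology.IsInducing.subtypeVal.topologicalKrullDim_le.trans hrd.le)
        (by exact_mod_cast Nat.lt_succ_self (r' + 1)))).2 ((HilbLib.not_dim_lt_iff
          (DevLib.isClosed_support (DevLib.isCoh_structureModule J.subscheme)) _).1 (by
        rw [show CohB1.support (Coh.structureModule J.subscheme) = Set.univ from Set.eq_univ_of_forall fun x =>
            haveI : Nontrivial ((Coh.structureModule J.subscheme).presheaf.stalk x) := (ParaFLib.bijective_oneG x).1.nontrivial
            not_subsingleton _,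
          (Homeomorph.Set.univ _).isHomeomorph.topologicalKrullDim_eq, hrd]
        exact lt_irrefl _))
    exact hpos.ne' h0
  obtain ⟨e, rfl⟩ : ∃ e, r = e + 3 := ⟨r - 3, by omega⟩
  have hclm : ∀ n, Nakai.cl hH.1 ^ n ∈ Nakai.Aug Y ^ n := fun n => Ideal.pow_mem_pow (Nakai.cl_mem _) n
  have hv : ∀ w', Nakai.cl hL * w' ∈ Nakai.Aug Y ^ (e + 2) →
      pairing k (cokernel φ') (Nakai.pullRing i (Nakai.cl hL * w')) = 0 := by
    intro w' hw'
    have hmem := Nakai.pullRing_mem i hw'
    have hd2 : topologicalKrullDim (CohB1.support (cokernel φ')) < ((e + 2 + 1 : ℕ) : WithBot ℕ∞) := hdC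
    have hp : ∀ x ∈ CohB1.support (cokernel φ'), topologicalKrullDim (closure {x} : Set J.subscheme) = ((e + 2 : ℕ) : WithBot ℕ∞) →
        pairing k (compMod x) (Nakai.pullRing i (Nakai.cl hL * w')) = 0 := fun x hx hxd => by
      obtain ⟨a, ha, h⟩ := exists_transfer_point k i rfl hxd
      rw [h _ hw', hpt _ (hsupp x hx) _ ((dim_closure_of_immersion i x).symm.trans hxd) _ hw', mul_zero]
    refine le_antisymm ?_ (Nakai.pairing_nonneg k hmem hcoh hd2 fun x hx hxd => (hp x hx hxd).ge)
    have h := Nakai.pairing_nonneg k (d := e + 2) (z := -Nakai.pullRing i (Nakai.cl hL * w'))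
      ((Nakai.Aug _ ^ _).neg_mem hmem) hcoh hd2 fun x hx hxd => by rw [map_neg, hp x hx hxd, neg_zero]
    rwa [map_neg, neg_nonneg] at h
  have hLJ : PicF.IsInvertible ((Scheme.Modules.pullback i).obj L) := isInvertible_pullback i hL
  have h0 : pairing k (compMod w) (Nakai.cl hLJ) = 0 := by
    refine indexOK (e + 1) k J.subscheme hrd _ hHJ _ (Nakai.cl_mem _) ?_ ?_ w hwd
    · have h := hv (Nakai.cl hH.1 ^ (e + 1)) (by
        rw [show e + 2 = 1 + (e + 1) by omega, pow_add _ 1, pow_one]
        exact Ideal.mul_mem_mul (Nakai.cl_mem _) (hclm _))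
      rw [Nakai.pairing_coker_section k hHJ.1 φ', map_mul (Nakai.pullRing i), map_pow (Nakai.pullRing i), Nakai.pullRing_cl, Nakai.pullRing_cl] at h
      rw [← h]; congr 1; ring
    · have h := hv (Nakai.cl hL * Nakai.cl hH.1 ^ e) (by
        rw [show e + 2 = 1 + (1 + e) by omega, pow_add _ 1, pow_add _ 1, pow_one]
        exact Ideal.mul_mem_mul (Nakai.cl_mem _) (Ideal.mul_mem_mul (Nakai.cl_mem _) (hclm _)))
      rw [Nakai.pairing_coker_section k hHJ.1 φ', map_mul (Nakai.pullRing i), map_mul (Nakai.pullRing i), map_pow (Nakai.pullRing i), Nakai.pullRing_cl, Nakai.pullRing_cl] at h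
      refine le_of_eq (h.symm.trans ?_); congr 1; ring
  obtain ⟨b, hb, htr⟩ := exists_transfer_point k i rfl hwd
  have := htr (Nakai.cl hL) (by simpa using Nakai.cl_mem hL)
  rw [Nakai.pullRing_cl, h0] at this
  exact (mul_eq_zero.1 this.symm).resolve_left (by exact_mod_cast hb.ne')

end Groth.Agent.GenCut

end
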